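import Mathlib
import Groth.Agent.Lib.Helper1.LCILoc

set_option autoImplicit false
set_option linter.style.haveILetI false

universe u

open Function

namespace Groth.Agent.H8.LCI

open Groth.Agent.H1.LCILoc

section Cot

variable {P : Type u} [CommRing P] (I : Ideal P) (M : Submonoid P) (S : Type u) [CommRing S]
  [Algebra P S]

/-- `P/I`-module structure on `(IS)/(IS)²`. -/
@[reducible] noncomputable def cotModule :
    Module (P ⧸ I) (I.map (algebraMap P S)).Cotangent :=
  Module.compHom _ (algebraMap (P ⧸ I) (S ⧸ I.map (algebraMap P S)))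

attribute [local instance] cotModule

instance cot_tower1 :
    IsScalarTower (P ⧸ I) (S ⧸ I.map (algebraMap P S)) (I.map (algebraMap P S)).Cotangent :=
  ⟨fun a b c => by
    show (a • b) • c = (algebraMap (P ⧸ I) (S ⧸ I.map (algebraMap P S)) a) • (b • c)
    rw [Algebra.smul_def, mul_smul]⟩

instance cot_tower2 : IsScalarTower P (P ⧸ I) (I.map (algebraMap P S)).Cotangent := by
  apply IsScalarTower.of_algebraMap_smul
  intro r x
  show algebraMap (P ⧸ I) (S ⧸ I.map (algebraMap P S)) (algebraMap P (P ⧸ I) r) • x = r • x
  rw [← algebraMap_smul S r x, ← algebraMap_smul (S ⧸ I.map (algebraMap P S)) (algebraMap P S r) x]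
  rfl

/-- The `P/I`-linear map `I/I² → IS/(IS)²`. -/
noncomputable def cotQ : I.Cotangent →ₗ[P ⧸ I] (I.map (algebraMap P S)).Cotangent :=
  LinearMap.extendScalarsOfSurjective Ideal.Quotient.mk_surjective (cotMap S I)

theorem cotQ_toCotangent (x : I) :
    cotQ I S (I.toCotangent x) = (I.map (algebraMap P S)).toCotangent
      ⟨algebraMap P S x, Ideal.mem_map_of_mem _ x.2⟩ := rfl

variable [IsLocalization M S]

theorem isLocalizedModule_cotQ :
    IsLocalizedModule (Algebra.algebraMapSubmonoid (P ⧸ I) M) (cotQ I S) := by
  haveI : IsLocalizedModule M ((cotQ I S).restrictScalars P) := isLocalizedModule_cotMap M S I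
  exact IsLocalizedModule.of_restrictScalars (A := P ⧸ I) M (cotQ I S)

include M in
/-- (L1) Flatness of the conormal module passes to localizations. -/
theorem flat_cotangent_map [Module.Flat (P ⧸ I) I.Cotangent] :
    Module.Flat (S ⧸ I.map (algebraMap P S)) (I.map (algebraMap P S)).Cotangent := by
  haveI := isLocalizedModule_cotQ I M S
  exact Module.Flat.of_isLocalizedModule (S ⧸ I.map (algebraMap P S))
    (Algebra.algebraMapSubmonoid (P ⧸ I) M) (cotQ I S)

include M in
theorem flat_quot_of_flat_cotangent_map
    [Module.Flat (S ⧸ I.map (algebraMap P S)) (I.map (algebraMap P S)).Cotangent] :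
    Module.Flat (P ⧸ I) (I.map (algebraMap P S)).Cotangent :=
  (Module.flat_iff_of_isLocalization (S ⧸ I.map (algebraMap P S))
    (Algebra.algebraMapSubmonoid (P ⧸ I) M) _).mp inferInstance

end Cot

section Away

variable {P : Type u} [CommRing P] (I : Ideal P)

attribute [local instance] cotModule

theorem isLocalizedModule_cotQ_away (g : P) (r : P ⧸ I) (hr : Ideal.Quotient.mk I g = r) :
    IsLocalizedModule (Submonoid.powers r) (cotQ I (Localization.Away g)) := by
  subst hr
  have h := isLocalizedModule_cotQ I (Submonoid.powers g) (Localization.Away g)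
  have e : Algebra.algebraMapSubmonoid (P ⧸ I) (Submonoid.powers g) =
      Submonoid.powers (Ideal.Quotient.mk I g) := by
    show Submonoid.map _ _ = _
    rw [Submonoid.map_powers]
    rfl
  rwa [e] at h

/-- Flatness of `I/I²` over `P/I` is local on `Spec P/I`. -/
theorem flat_cotangent_of_span (s : Set P)
    (hs : Ideal.span (Ideal.Quotient.mk I '' s) = ⊤)
    (H : ∀ g ∈ s, Module.Flat
      (Localization.Away g ⧸ I.map (algebraMap P (Localization.Away g)))
      (I.map (algebraMap P (Localization.Away g))).Cotangent) :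
    Module.Flat (P ⧸ I) I.Cotangent := by
  classical
  let t : Set (P ⧸ I) := Ideal.Quotient.mk I '' s
  let gOf : t → P := fun r => Classical.choose r.2
  have hgOf : ∀ r : t, gOf r ∈ s ∧ Ideal.Quotient.mk I (gOf r) = r.1 :=
    fun r => Classical.choose_spec r.2
  haveI : ∀ r : t, IsLocalizedModule.Away r.1 (cotQ I (Localization.Away (gOf r))) :=
    fun r => isLocalizedModule_cotQ_away I (gOf r) r.1 (hgOf r).2
  refine Module.flat_of_isLocalized_span (R := P ⧸ I) (S := P ⧸ I) I.Cotangent t hs
    (fun r => (I.map (algebraMap P (Localization.Away (gOf r)))).Cotangent)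
    (fun r => cotQ I (Localization.Away (gOf r))) (fun r => ?_)
  haveI := H (gOf r) (hgOf r).1
  exact flat_quot_of_flat_cotangent_map I (Submonoid.powers (gOf r)) _

end Away

end Groth.Agent.H8.LCI
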