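import Mathlib

set_option autoImplicit false
set_option linter.style.haveILetI false

open Function

namespace Groth.Agent.H8.LCI

universe u₁ u₂ v₁ v₂

/-- Flatness descends along a surjective semilinear map whose kernel is `(ker φ) • ⊤`
(i.e. `M₂ = R₂ ⊗ M₁` for a quotient `R₁ → R₂`), via the equational criterion. -/
theorem flat_of_semilinear_surjective {R₁ : Type u₁} {R₂ : Type u₂} {M₁ : Type v₁} {M₂ : Type v₂}
    [CommRing R₁] [CommRing R₂] [AddCommGroup M₁] [Module R₁ M₁] [AddCommGroup M₂] [Module R₂ M₂]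
    (φ : R₁ →+* R₂) (hφ : Surjective φ) (g : M₁ →+ M₂) (hg : Surjective g)
    (hsmul : ∀ r m, g (r • m) = φ r • g m)
    (hker : ∀ m, g m = 0 → m ∈ (RingHom.ker φ) • (⊤ : Submodule R₁ M₁))
    [Module.Flat R₁ M₁] : Module.Flat R₂ M₂ := by
  classical
  apply Module.Flat.of_forall_isTrivialRelation
  intro l f x hfx
  choose f' hf' using fun i => hφ (f i)
  choose x' hx' using fun i => hg (x i)
  have h0 : g (∑ i, f' i • x' i) = 0 := by
    rw [map_sum]
    simp only [hsmul, hf', hx', hfx]
  have h1 := hker _ h0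
  rw [← Submodule.span_univ (R := R₁) (M := M₁), ← Set.range_id,
    Submodule.mem_ideal_smul_span_iff_exists_sum] at h1
  obtain ⟨a, ha, hsum⟩ := h1
  rw [Finsupp.sum, ← Finset.sum_coe_sort] at hsum
  let κ := {k // k ∈ a.support}
  have hrel : ∑ s : Fin l ⊕ κ, (Sum.elim f' (fun k => - a k.1) s) •
      (Sum.elim x' (fun k => (k.1 : M₁)) s) = 0 := by
    rw [Fintype.sum_sum_type]
    simp only [Sum.elim_inl, Sum.elim_inr, neg_smul, Finset.sum_neg_distrib]
    rw [← hsum]
    simp only [id_eq]
    exact add_neg_cancel _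
  obtain ⟨k, c, y, hxy, hfc⟩ := Module.Flat.isTrivialRelation_of_sum_smul_eq_zero hrel
  refine ⟨k, fun i j => φ (c (Sum.inl i) j), fun j => g (y j), ?_, ?_⟩
  · intro i
    have := hxy (Sum.inl i)
    simp only [Sum.elim_inl] at this
    rw [← hx' i, this, map_sum]
    simp only [hsmul]
  · intro j
    have := hfc j
    rw [Fintype.sum_sum_type] at this
    simp only [Sum.elim_inl, Sum.elim_inr] at this
    have h2 := congrArg φ this
    rw [map_add, map_sum, map_sum, map_zero] at h2
    have h3 : ∑ x : κ, φ (-a x.1 * c (Sum.inr x) j) = 0 := by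
      apply Finset.sum_eq_zero
      intro s _
      rw [map_mul, map_neg, (RingHom.mem_ker).mp (ha s.1), neg_zero, zero_mul]
    rw [h3, add_zero] at h2
    rw [← h2]
    apply Finset.sum_congr rfl
    intro i _
    rw [map_mul, hf']

section Ext

open Algebra

variable {R S : Type*} [CommRing R] [CommRing S] [Algebra R S] (P : Algebra.Extension R S)

/-- The ring isomorphism `P.Ring ⧸ P.ker ≃+* S`. -/
noncomputable def quotKerEquiv : (P.Ring ⧸ P.ker) ≃+* S :=
  RingEquiv.ofBijective (Ideal.Quotient.lift P.ker (algebraMap P.Ring S) (fun _ ha => (RingHom.mem_ker).mp ha))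
    ⟨by
      rw [injective_iff_map_eq_zero]
      intro a ha
      obtain ⟨a, rfl⟩ := Ideal.Quotient.mk_surjective a
      rw [Ideal.Quotient.lift_mk] at ha
      exact Ideal.Quotient.eq_zero_iff_mem.mpr ha,
     fun s => by
      obtain ⟨a, rfl⟩ := P.algebraMap_surjective s
      exact ⟨Ideal.Quotient.mk _ a, by rw [Ideal.Quotient.lift_mk]⟩⟩

@[simp] theorem quotKerEquiv_mk (a : P.Ring) :
    quotKerEquiv P (Ideal.Quotient.mk _ a) = algebraMap P.Ring S a := rfl

theorem quotKerEquiv_symm_algebraMap (a : P.Ring) :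
    (quotKerEquiv P).symm (algebraMap P.Ring S a) = Ideal.Quotient.mk _ a := by
  rw [RingEquiv.symm_apply_eq, quotKerEquiv_mk]

theorem of_quot_smul (r : P.Ring ⧸ P.ker) (m : P.ker.Cotangent) :
    Extension.Cotangent.of (r • m) = quotKerEquiv P r • (Extension.Cotangent.of m : P.Cotangent) := by
  obtain ⟨a, rfl⟩ := Ideal.Quotient.mk_surjective r
  rw [quotKerEquiv_mk]
  apply Extension.Cotangent.ext
  rw [algebraMap_smul, Extension.Cotangent.val_smul']
  rfl

theorem flat_extCotangent_of_flat [Module.Flat (P.Ring ⧸ P.ker) P.ker.Cotangent] :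
    Module.Flat S P.Cotangent :=
  flat_of_semilinear_surjective (quotKerEquiv P : (P.Ring ⧸ P.ker) →+* S)
    (quotKerEquiv P).surjective
    (P.cotangentEquivCotangentKer.symm : P.ker.Cotangent →+ P.Cotangent)
    P.cotangentEquivCotangentKer.symm.surjective
    (fun r m => of_quot_smul P r m)
    (fun m hm => by
      have : m = 0 := P.cotangentEquivCotangentKer.symm.injective (by simpa using hm)
      rw [this]; exact Submodule.zero_mem _)

theorem flat_of_flat_extCotangent [Module.Flat S P.Cotangent] :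
    Module.Flat (P.Ring ⧸ P.ker) P.ker.Cotangent :=
  flat_of_semilinear_surjective ((quotKerEquiv P).symm : S →+* (P.Ring ⧸ P.ker))
    (quotKerEquiv P).symm.surjective
    (P.cotangentEquivCotangentKer : P.Cotangent →+ P.ker.Cotangent)
    P.cotangentEquivCotangentKer.surjective
    (fun r m => by
      obtain ⟨r, rfl⟩ := (quotKerEquiv P).surjective r
      have := of_quot_smul P r m.val
      show Extension.Cotangent.val (quotKerEquiv P r • m) = _
      rw [show (m : P.Cotangent) = Extension.Cotangent.of m.val from rfl, ← this]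
      simp)
    (fun m hm => by
      have : m = 0 := P.cotangentEquivCotangentKer.injective (by simpa using hm)
      rw [this]; exact Submodule.zero_mem _)

theorem flat_extCotangent_iff :
    Module.Flat S P.Cotangent ↔ Module.Flat (P.Ring ⧸ P.ker) P.ker.Cotangent :=
  ⟨fun _ => flat_of_flat_extCotangent P, fun _ => flat_extCotangent_of_flat P⟩

/-- The semilinear equivalence `I/I² ≃ P.Cotangent` over `P.Ring ⧸ P.ker ≃+* S`. -/
noncomputable def cotSemiEquiv :
    letI σ : (P.Ring ⧸ P.ker) →+* S := (quotKerEquiv P : (P.Ring ⧸ P.ker) →+* S)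
    letI σ' : S →+* (P.Ring ⧸ P.ker) := ((quotKerEquiv P).symm : S →+* (P.Ring ⧸ P.ker))
    haveI : RingHomInvPair σ σ' := RingHomInvPair.of_ringEquiv (quotKerEquiv P)
    haveI : RingHomInvPair σ' σ := RingHomInvPair.symm σ σ'
    P.ker.Cotangent ≃ₛₗ[σ] P.Cotangent :=
  letI σ : (P.Ring ⧸ P.ker) →+* S := (quotKerEquiv P : (P.Ring ⧸ P.ker) →+* S)
  letI σ' : S →+* (P.Ring ⧸ P.ker) := ((quotKerEquiv P).symm : S →+* (P.Ring ⧸ P.ker))
  haveI : RingHomInvPair σ σ' := RingHomInvPair.of_ringEquiv (quotKerEquiv P)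
  haveI : RingHomInvPair σ' σ := RingHomInvPair.symm σ σ'
  { toFun := Extension.Cotangent.of
    map_add' := fun _ _ => rfl
    map_smul' := fun r m => of_quot_smul P r m
    invFun := Extension.Cotangent.val
    left_inv := fun _ => rfl
    right_inv := fun _ => rfl }

theorem projective_extCotangent_of_projective [Module.Projective (P.Ring ⧸ P.ker) P.ker.Cotangent] :
    Module.Projective S P.Cotangent := by
  letI σ : (P.Ring ⧸ P.ker) →+* S := (quotKerEquiv P : (P.Ring ⧸ P.ker) →+* S)
  letI σ' : S →+* (P.Ring ⧸ P.ker) := ((quotKerEquiv P).symm : S →+* (P.Ring ⧸ P.ker))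
  haveI : RingHomInvPair σ σ' := RingHomInvPair.of_ringEquiv (quotKerEquiv P)
  haveI : RingHomInvPair σ' σ := RingHomInvPair.symm σ σ'
  exact Module.Projective.of_equiv (cotSemiEquiv P)

theorem finite_extCotangent_of_finite [Module.Finite (P.Ring ⧸ P.ker) P.ker.Cotangent] :
    Module.Finite S P.Cotangent := by
  haveI : Module.Finite P.Ring P.ker.Cotangent := Module.Finite.trans (P.Ring ⧸ P.ker) _
  haveI : Module.Finite P.Ring P.Cotangent :=
    Module.Finite.equiv P.cotangentEquivCotangentKer.symm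
  exact Module.Finite.of_restrictScalars_finite P.Ring S P.Cotangent

end Ext

end Groth.Agent.H8.LCI
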