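import Mathlib
import Groth.Agent.Lib.Helper8.LCI.Transfer

set_option autoImplicit false
set_option linter.style.haveILetI false

open Function

namespace Groth.Agent.H8.LCI

variable {L : Type*} [CommRing L] (K 𝔞 : Ideal L)

/-- (L2) If `K ∩ 𝔞 ⊆ 𝔞K` and `K/K²` is flat over `L/K`, then for the image `J` of `K` in `L/𝔞`
the conormal module `J/J²` is flat over `(L/𝔞)/J`. -/
theorem flat_cotangent_quotient (h : K ⊓ 𝔞 ≤ 𝔞 * K) [Module.Flat (L ⧸ K) K.Cotangent] :
    Module.Flat ((L ⧸ 𝔞) ⧸ K.map (Ideal.Quotient.mk 𝔞))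
      (K.map (Ideal.Quotient.mk 𝔞)).Cotangent := by
  set J := K.map (Ideal.Quotient.mk 𝔞) with hJ
  have hle : K ≤ J.comap (Ideal.Quotient.mk 𝔞) := Ideal.le_comap_map
  have hle' : K ≤ J.comap (Ideal.Quotient.mkₐ L 𝔞) := hle
  let φ : L ⧸ K →+* (L ⧸ 𝔞) ⧸ J := Ideal.quotientMap J (Ideal.Quotient.mk 𝔞) hle
  have hφ : Surjective φ := Ideal.quotientMap_surjective Ideal.Quotient.mk_surjective
  let g₀ : K.Cotangent →ₗ[L] J.Cotangent := Ideal.mapCotangent K J (Ideal.Quotient.mkₐ L 𝔞) hle'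
  have hg₀ : ∀ x : K, g₀ (K.toCotangent x) =
      J.toCotangent ⟨Ideal.Quotient.mk 𝔞 x, hle x.2⟩ := fun x => rfl
  have hg : Surjective g₀ := by
    intro y
    obtain ⟨⟨z, hz⟩, rfl⟩ := Ideal.toCotangent_surjective _ y
    obtain ⟨x, hx, rfl⟩ := (Ideal.mem_map_iff_of_surjective _ Ideal.Quotient.mk_surjective).mp hz
    exact ⟨K.toCotangent ⟨x, hx⟩, hg₀ _⟩
  have hsmul : ∀ (r : L ⧸ K) (m : K.Cotangent), g₀ (r • m) = φ r • g₀ m := by
    intro r m
    obtain ⟨a, rfl⟩ := Ideal.Quotient.mk_surjective r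
    have h1 : (Ideal.Quotient.mk K a) • m = a • m := rfl
    rw [h1, map_smul]
    rfl
  have hker : ∀ m, g₀ m = 0 → m ∈ (RingHom.ker φ) • (⊤ : Submodule (L ⧸ K) K.Cotangent) := by
    intro m hm
    obtain ⟨⟨x, hx⟩, rfl⟩ := Ideal.toCotangent_surjective _ m
    rw [hg₀, Ideal.toCotangent_eq_zero] at hm
    simp only at hm
    rw [hJ, ← Ideal.map_pow] at hm
    obtain ⟨w, hw, hwx⟩ := (Ideal.mem_map_iff_of_surjective _ Ideal.Quotient.mk_surjective).mp hm
    have hwK : w ∈ K := Ideal.pow_le_self two_ne_zero hw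
    have hd : x - w ∈ 𝔞 * K := by
      apply h
      refine ⟨K.sub_mem hx hwK, ?_⟩
      show x - w ∈ 𝔞
      rw [← Ideal.Quotient.eq_zero_iff_mem, map_sub, hwx, sub_self]
    have hcot : K.toCotangent ⟨x, hx⟩ = K.toCotangent ⟨x - w, K.sub_mem hx hwK⟩ := by
      rw [Ideal.toCotangent_eq]
      simpa using hw
    rw [hcot]
    -- the submodule `N` of `K` mapping into `ker φ • ⊤`
    let N : Submodule L K.Cotangent :=
      ((RingHom.ker φ) • (⊤ : Submodule (L ⧸ K) K.Cotangent)).restrictScalars L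
    have hN : 𝔞 • (⊤ : Submodule L K) ≤ N.comap K.toCotangent := by
      rw [Submodule.smul_le]
      intro r hr n _
      rw [Submodule.mem_comap, map_smul]
      show r • K.toCotangent n ∈ (RingHom.ker φ) • (⊤ : Submodule (L ⧸ K) K.Cotangent)
      have h2 : r • K.toCotangent n = (Ideal.Quotient.mk K r) • K.toCotangent n := rfl
      rw [h2]
      apply Submodule.smul_mem_smul _ Submodule.mem_top
      rw [RingHom.mem_ker]
      show Ideal.Quotient.mk J (Ideal.Quotient.mk 𝔞 r) = 0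
      rw [Ideal.Quotient.eq_zero_iff_mem.mpr hr, map_zero]
    have hmem : (⟨x - w, K.sub_mem hx hwK⟩ : K) ∈ 𝔞 • (⊤ : Submodule L K) := by
      rw [Submodule.mem_smul_top_iff]
      exact hd
    exact hN hmem
  exact flat_of_semilinear_surjective φ hφ g₀.toAddMonoidHom hg hsmul hker

end Groth.Agent.H8.LCI
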