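import Mathlib
import Groth.Agent.Lib.Helper8.LCI.CotLoc
import Groth.Agent.Lib.Helper8.LCI.CotQuot

set_option autoImplicit false
set_option linter.style.haveILetI false

universe u

open Function

namespace Groth.Agent.H8.LCI

variable {A P : Type u} [CommRing A] [CommRing P] [Algebra A P] (I : Ideal P)
  (𝔮 : Ideal P) [𝔮.IsPrime]

/-- `𝔭 P_𝔮` for `𝔭 = 𝔮 ∩ A`. -/
abbrev pL : Ideal (Localization.AtPrime 𝔮) :=
  (𝔮.comap (algebraMap A P)).map (algebraMap A (Localization.AtPrime 𝔮))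

/-- `I P_𝔮`. -/
abbrev KL : Ideal (Localization.AtPrime 𝔮) := I.map (algebraMap P (Localization.AtPrime 𝔮))

/-- The image of `I` in the fibre local ring `P_𝔮 / 𝔭 P_𝔮`. -/
abbrev JR : Ideal (Localization.AtPrime 𝔮 ⧸ pL (A := A) 𝔮) :=
  (KL I 𝔮).map (Ideal.Quotient.mk (pL (A := A) 𝔮))

theorem flat_quot_KL [Module.Flat A (P ⧸ I)] :
    Module.Flat A (Localization.AtPrime 𝔮 ⧸ KL I 𝔮) := by
  haveI : Module.Flat (P ⧸ I) (Localization.AtPrime 𝔮 ⧸ KL I 𝔮) :=
    IsLocalization.flat _ (Algebra.algebraMapSubmonoid (P ⧸ I) 𝔮.primeCompl)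
  haveI : IsScalarTower A (P ⧸ I) (Localization.AtPrime 𝔮 ⧸ KL I 𝔮) :=
    IsScalarTower.of_algebraMap_eq fun a => by
      show Ideal.Quotient.mk _ (algebraMap A (Localization.AtPrime 𝔮) a) =
        Ideal.Quotient.mk _ (algebraMap P (Localization.AtPrime 𝔮) (algebraMap A P a))
      rw [← IsScalarTower.algebraMap_apply]
  exact Module.Flat.trans A (P ⧸ I) _

theorem KL_inf_pL_le [Module.Flat A (P ⧸ I)] :
    KL I 𝔮 ⊓ pL (A := A) 𝔮 ≤ pL (A := A) 𝔮 * KL I 𝔮 := by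
  haveI := flat_quot_KL (A := A) I 𝔮
  intro x hx
  let f : Localization.AtPrime 𝔮 →ₗ[A] (Localization.AtPrime 𝔮 ⧸ KL I 𝔮) :=
    (Ideal.Quotient.mkₐ A (KL I 𝔮)).toLinearMap
  have hf : Surjective f := Ideal.Quotient.mk_surjective
  have key := LinearMap.ker_inf_smul_top_eq_smul_of_flat (𝔮.comap (algebraMap A P)) f hf
  have hx1 : x ∈ LinearMap.ker f ⊓ (𝔮.comap (algebraMap A P)) •
      (⊤ : Submodule A (Localization.AtPrime 𝔮)) := by
    refine Submodule.mem_inf.mpr ⟨?_, ?_⟩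
    · rw [LinearMap.mem_ker]
      exact Ideal.Quotient.eq_zero_iff_mem.mpr hx.1
    · rw [Ideal.smul_top_eq_map]
      exact hx.2
  rw [key] at hx1
  refine Submodule.smul_induction_on hx1 ?_ ?_
  · intro r hr n hn
    rw [Algebra.smul_def]
    apply Ideal.mul_mem_mul (Ideal.mem_map_of_mem _ hr)
    rw [LinearMap.mem_ker] at hn
    exact Ideal.Quotient.eq_zero_iff_mem.mp hn
  · intro a b ha hb
    exact Ideal.add_mem _ ha hb

/-- (F1) The conormal module of the image of `I` in the fibre local ring is flat. -/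
theorem flat_cotangent_JR [Module.Flat A (P ⧸ I)] [Module.Flat (P ⧸ I) I.Cotangent] :
    Module.Flat ((Localization.AtPrime 𝔮 ⧸ pL (A := A) 𝔮) ⧸ JR (A := A) I 𝔮)
      (JR (A := A) I 𝔮).Cotangent := by
  haveI : Module.Flat (Localization.AtPrime 𝔮 ⧸ KL I 𝔮) (KL I 𝔮).Cotangent :=
    flat_cotangent_map I 𝔮.primeCompl (Localization.AtPrime 𝔮)
  exact flat_cotangent_quotient (KL I 𝔮) (pL (A := A) 𝔮) (KL_inf_pL_le I 𝔮)

end Groth.Agent.H8.LCI
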