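import Mathlib
import Groth.Agent.Lib.Helper8.LCI.Fibre
import Groth.Agent.Lib.Helper1.RegGlobal
import Groth.Agent.Lib.Helper1.RegSpread
import Groth.Agent.S2189

set_option autoImplicit false
set_option linter.style.haveILetI false

universe u

open Function CategoryTheory

namespace Groth.Agent.H8.LCI

variable {A P : Type u} [CommRing A] [CommRing P] [Algebra A P] (I : Ideal P)
  (𝔮 : Ideal P) [𝔮.IsPrime]

theorem KL_le_maximalIdeal (hI : I ≤ 𝔮) :
    KL I 𝔮 ≤ IsLocalRing.maximalIdeal (Localization.AtPrime 𝔮) := by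
  rw [← Localization.AtPrime.map_eq_maximalIdeal]
  exact Ideal.map_mono hI

theorem pL_le_maximalIdeal :
    pL (A := A) 𝔮 ≤ IsLocalRing.maximalIdeal (Localization.AtPrime 𝔮) := by
  rw [← Localization.AtPrime.map_eq_maximalIdeal]
  show Ideal.map (algebraMap A (Localization.AtPrime 𝔮)) _ ≤ _
  rw [IsScalarTower.algebraMap_eq A P (Localization.AtPrime 𝔮), ← Ideal.map_map]
  exact Ideal.map_mono Ideal.map_comap_le

theorem JR_ne_top (hI : I ≤ 𝔮) : JR (A := A) I 𝔮 ≠ ⊤ := by
  intro h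
  have h1 : (JR (A := A) I 𝔮).comap (Ideal.Quotient.mk (pL (A := A) 𝔮)) = ⊤ := by
    rw [h, Ideal.comap_top]
  rw [Ideal.comap_map_of_surjective _ Ideal.Quotient.mk_surjective, ← RingHom.ker_eq_comap_bot,
    Ideal.mk_ker] at h1
  have h2 : KL I 𝔮 ⊔ pL (A := A) 𝔮 ≤ IsLocalRing.maximalIdeal (Localization.AtPrime 𝔮) :=
    sup_le (KL_le_maximalIdeal I 𝔮 hI) (pL_le_maximalIdeal 𝔮)
  rw [h1, top_le_iff] at h2
  exact (IsLocalRing.maximalIdeal.isMaximal _).ne_top h2

/-- In a regular local ring, an ideal with flat conormal module is generated by a regular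
sequence (Vasconcelos + Serre). -/
theorem exists_regular_gens_of_flat {R : Type u} [CommRing R] [IsRegularLocalRing R]
    (J : Ideal R) (hJ : J ≠ ⊤) [Module.Flat (R ⧸ J) J.Cotangent] :
    ∃ (r : ℕ) (x : Fin r → R), (∀ i, x i ∈ J) ∧
      RingTheory.Sequence.IsRegular R (List.ofFn x) ∧ Ideal.span (Set.range x) = J := by
  haveI : Nontrivial (R ⧸ J) := Ideal.Quotient.nontrivial_iff.mpr hJ
  haveI : Module.Finite R J.Cotangent := Module.Finite.of_surjective _ J.toCotangent_surjective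
  haveI : Module.Finite (R ⧸ J) J.Cotangent := Module.Finite.of_restrictScalars_finite R _ _
  haveI : IsLocalRing (R ⧸ J) :=
    IsLocalRing.of_surjective' (Ideal.Quotient.mk J) Ideal.Quotient.mk_surjective
  haveI : Module.Free (R ⧸ J) J.Cotangent := Module.free_of_flat_of_isLocalRing
  have hd : ringKrullDim R = ((IsLocalRing.maximalIdeal R).spanFinrank : ℕ) :=
    ((isRegularLocalRing_iff R).mp inferInstance).symm
  have hpd := Groth.Agent.H1.Reg.hasProjectiveDimensionLT_of_isRegularLocalRing R _ hd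
    (ModuleCat.of R J)
  exact Groth.Agent.S2189.Groth.Agent.S2189.exists_isRegular_local J hJ _ hpd

/-- (F2) In the regular fibre local ring the image of `I` is generated by a regular sequence. -/
theorem exists_regular_gens (hI : I ≤ 𝔮)
    [IsRegularLocalRing (Localization.AtPrime 𝔮 ⧸ pL (A := A) 𝔮)]
    [Module.Flat A (P ⧸ I)] [Module.Flat (P ⧸ I) I.Cotangent] :
    ∃ (r : ℕ) (x : Fin r → Localization.AtPrime 𝔮 ⧸ pL (A := A) 𝔮),
      (∀ i, x i ∈ JR (A := A) I 𝔮) ∧
      RingTheory.Sequence.IsRegular (Localization.AtPrime 𝔮 ⧸ pL (A := A) 𝔮) (List.ofFn x) ∧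
      Ideal.span (Set.range x) = JR (A := A) I 𝔮 := by
  haveI := flat_cotangent_JR (A := A) I 𝔮
  exact exists_regular_gens_of_flat (JR (A := A) I 𝔮) (JR_ne_top I 𝔮 hI)

end Groth.Agent.H8.LCI
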