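import Mathlib
import Groth.Agent.Lib.Helper8.LCI.Fibre2

set_option autoImplicit false
set_option linter.style.haveILetI false

universe u

open Function CategoryTheory

namespace Groth.Agent.H8.LCI

variable {A P : Type u} [CommRing A] [CommRing P] [Algebra A P] (I : Ideal P)
  (𝔮 : Ideal P) [𝔮.IsPrime]

/-- (F3) Lift the regular generators of the image of `I` in the fibre local ring to elements of
`I`, up to units. -/
theorem exists_lift_regular (hI : I ≤ 𝔮)
    [IsRegularLocalRing (Localization.AtPrime 𝔮 ⧸ pL (A := A) 𝔮)]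
    [Module.Flat A (P ⧸ I)] [Module.Flat (P ⧸ I) I.Cotangent] :
    ∃ ys : List P, (∀ y ∈ ys, y ∈ I) ∧
      RingTheory.Sequence.IsRegular (Localization.AtPrime 𝔮 ⧸ pL (A := A) 𝔮)
        (ys.map (algebraMap P (Localization.AtPrime 𝔮 ⧸ pL (A := A) 𝔮))) ∧
      Ideal.ofList (ys.map (algebraMap P (Localization.AtPrime 𝔮 ⧸ pL (A := A) 𝔮))) =
        JR (A := A) I 𝔮 := by
  classical
  obtain ⟨r, x, hxJ, hreg, hspan⟩ := exists_regular_gens (A := A) I 𝔮 hI
  set ρ := algebraMap P (Localization.AtPrime 𝔮 ⧸ pL (A := A) 𝔮) with hρ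
  have hlift : ∀ i, ∃ q : I × 𝔮.primeCompl, x i * ρ q.2 = ρ q.1 := by
    intro i
    obtain ⟨k, hk, hkx⟩ :=
      (Ideal.mem_map_iff_of_surjective _ Ideal.Quotient.mk_surjective).mp (hxJ i)
    obtain ⟨q, hq⟩ :=
      (IsLocalization.mem_map_algebraMap_iff 𝔮.primeCompl (Localization.AtPrime 𝔮)).mp hk
    refine ⟨q, ?_⟩
    rw [← hkx]
    show Ideal.Quotient.mk _ k * Ideal.Quotient.mk _ (algebraMap P (Localization.AtPrime 𝔮) q.2) =
      Ideal.Quotient.mk _ (algebraMap P (Localization.AtPrime 𝔮) q.1)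
    rw [← map_mul, hq]
  choose q hq using hlift
  let ys : List P := List.ofFn fun i => ((q i).1 : P)
  have hys : ∀ a ∈ ys, a ∈ I := by
    intro a ha
    rw [List.mem_ofFn] at ha
    obtain ⟨i, rfl⟩ := ha
    exact (q i).1.2
  have hmap : ys.map ρ = List.ofFn fun i => ρ (q i).1 := by
    rw [List.map_ofFn]; rfl
  have hlen : (List.ofFn x).length = (ys.map ρ).length := by
    rw [hmap, List.length_ofFn, List.length_ofFn]
  have hunit : ∀ i (h : i < (List.ofFn x).length),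
      ∃ c, IsUnit c ∧ (ys.map ρ)[i]'(hlen ▸ h) = (List.ofFn x)[i] * c := by
    intro i h
    have hi : i < r := by rwa [List.length_ofFn] at h
    refine ⟨ρ (q ⟨i, hi⟩).2, ?_, ?_⟩
    · have h1 : IsUnit (algebraMap P (Localization.AtPrime 𝔮) (q ⟨i, hi⟩).2) :=
        IsLocalization.map_units _ _
      exact h1.map (Ideal.Quotient.mk (pL (A := A) 𝔮))
    · simp only [hmap, List.getElem_ofFn]
      exact (hq ⟨i, hi⟩).symm
  refine ⟨ys, hys, Groth.Agent.H1.Spread.isRegular_of_unit_mul _ _ hlen hunit hreg, ?_⟩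
  rw [Groth.Agent.H1.Spread.ofList_eq_of_unit_mul _ _ hlen hunit, ← hspan]
  show Ideal.span {a | a ∈ List.ofFn x} = Ideal.span (Set.range x)
  congr 1
  ext a
  simp [List.mem_ofFn]

/-- (F4) Nakayama: the lifts generate `I P_𝔮`. -/
theorem KL_eq_ofList [Module.Flat A (P ⧸ I)] (hfg : I.FG) (ys : List P) (hys : ∀ y ∈ ys, y ∈ I)
    (hgen : Ideal.ofList (ys.map (algebraMap P (Localization.AtPrime 𝔮 ⧸ pL (A := A) 𝔮))) =
      JR (A := A) I 𝔮) :
    KL I 𝔮 = Ideal.ofList (ys.map (algebraMap P (Localization.AtPrime 𝔮))) := by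
  set Y := Ideal.ofList (ys.map (algebraMap P (Localization.AtPrime 𝔮))) with hY
  have hYK : Y ≤ KL I 𝔮 := by
    rw [hY, ← Ideal.map_ofList]
    exact Ideal.map_mono (Ideal.span_le.mpr hys)
  apply le_antisymm _ hYK
  have hfgK : (KL I 𝔮).FG := hfg.map _
  apply Submodule.le_of_le_smul_of_le_jacobson_bot
    (I := IsLocalRing.maximalIdeal (Localization.AtPrime 𝔮)) hfgK
  · rw [IsLocalRing.jacobson_eq_maximalIdeal ⊥ bot_ne_top]
  · intro z hz
    have h1 : Ideal.Quotient.mk (pL (A := A) 𝔮) z ∈ JR (A := A) I 𝔮 := Ideal.mem_map_of_mem _ hz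
    rw [← hgen] at h1
    have h2 : Ideal.ofList (ys.map (algebraMap P (Localization.AtPrime 𝔮 ⧸ pL (A := A) 𝔮))) =
        Y.map (Ideal.Quotient.mk (pL (A := A) 𝔮)) := by
      rw [hY, Ideal.map_ofList, List.map_map]
      rfl
    rw [h2] at h1
    obtain ⟨y', hy', hy'z⟩ :=
      (Ideal.mem_map_iff_of_surjective _ Ideal.Quotient.mk_surjective).mp h1
    have h3 : z - y' ∈ pL (A := A) 𝔮 * KL I 𝔮 := by
      apply KL_inf_pL_le (A := A) I 𝔮
      refine ⟨(KL I 𝔮).sub_mem hz (hYK hy'), ?_⟩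
      show z - y' ∈ pL (A := A) 𝔮
      rw [← Ideal.Quotient.eq_zero_iff_mem, map_sub, hy'z, sub_self]
    have h4 : z = y' + (z - y') := by ring
    rw [h4]
    refine Submodule.add_mem_sup hy' ?_
    rw [smul_eq_mul]
    exact Ideal.mul_mono_left (pL_le_maximalIdeal 𝔮) h3

/-- (F4b) Spread out the generation statement to a principal open. -/
theorem exists_mul_mem_ofList [Module.Flat A (P ⧸ I)] (hfg : I.FG) (ys : List P)
    (hys : ∀ y ∈ ys, y ∈ I)
    (hgen : Ideal.ofList (ys.map (algebraMap P (Localization.AtPrime 𝔮 ⧸ pL (A := A) 𝔮))) =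
      JR (A := A) I 𝔮) :
    ∃ g ∈ 𝔮.primeCompl, ∀ c ∈ I, g * c ∈ Ideal.ofList ys := by
  apply Groth.Agent.H1.Spread.exists_mul_mem_of_map_le 𝔮.primeCompl (Localization.AtPrime 𝔮) I _ hfg
  rw [Ideal.map_ofList]
  exact (KL_eq_ofList (A := A) I 𝔮 hfg ys hys hgen).le

end Groth.Agent.H8.LCI
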