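import Mathlib
import Groth.Agent.Lib.Helper8.LCI.Fibre3
import Groth.Agent.Lib.Helper1.RegFib3
import Groth.Agent.Lib.Helper1.LimFlat5

set_option autoImplicit false
set_option linter.style.haveILetI false

universe u

open Function CategoryTheory RingTheory.Sequence

namespace Groth.Agent.H8.LCI

open Groth.Agent.H1

section WR

variable {A P : Type u} [CommRing A] [CommRing P] [Algebra A P]
  (𝔮 : Ideal P) [𝔮.IsPrime]

theorem smul_top_self (N : Ideal P) : (N • (⊤ : Submodule P P)) = N := by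
  rw [smul_eq_mul, Ideal.mul_top]

/-- (F5a) Weak regularity in the fibre local ring gives the elementwise condition `WRcond`. -/
theorem wrcond_of_isWeaklyRegular [Algebra.FinitePresentation A P] (ys : List P)
    (hreg : IsWeaklyRegular (Localization.AtPrime 𝔮 ⧸ pL (A := A) 𝔮)
      (ys.map (algebraMap P (Localization.AtPrime 𝔮 ⧸ pL (A := A) 𝔮)))) :
    RegFib.WRcond A P 𝔮 ys := by
  set ρ := algebraMap P (Localization.AtPrime 𝔮 ⧸ pL (A := A) 𝔮) with hρ
  set ι := algebraMap P (Localization.AtPrime 𝔮) with hι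
  have hρι : ∀ a, ρ a = Ideal.Quotient.mk (pL (A := A) 𝔮) (ι a) := fun a => rfl
  rw [Spread.isWeaklyRegular_iff_forall_mem] at hreg
  intro i h m
  set N : Ideal P := (𝔮.comap (algebraMap A P)).map (algebraMap A P) ⊔ Ideal.ofList (ys.take i)
    with hN
  rw [smul_top_self]
  rintro ⟨σ, hσ, hm⟩
  -- the image of `N` in the fibre ring
  have hpmap : ((𝔮.comap (algebraMap A P)).map (algebraMap A P)).map ι = pL (A := A) 𝔮 := by
    rw [Ideal.map_map, ← IsScalarTower.algebraMap_eq]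
  have hNι : N.map ι = pL (A := A) 𝔮 ⊔ (Ideal.ofList (ys.take i)).map ι := by
    rw [hN, Ideal.map_sup, hpmap]
  have hNρ : N.map ρ = Ideal.ofList ((ys.map ρ).take i) := by
    have h1 : N.map ρ = (N.map ι).map (Ideal.Quotient.mk (pL (A := A) 𝔮)) := by
      rw [Ideal.map_map]; rfl
    rw [h1, hNι, Ideal.map_sup, Ideal.map_quotient_self, bot_sup_eq, Ideal.map_map,
      ← List.map_take, ← Ideal.map_ofList]
    rfl
  have hi' : i < (ys.map ρ).length := by rw [List.length_map]; exact h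
  have h2 : ρ σ * (ρ ys[i] * ρ m) ∈ N.map ρ := by
    rw [← map_mul, ← map_mul]
    exact Ideal.mem_map_of_mem _ hm
  have hσu : IsUnit (ρ σ) := by
    have h1 : IsUnit (ι σ) := IsLocalization.map_units _ (⟨σ, hσ⟩ : 𝔮.primeCompl)
    exact h1.map (Ideal.Quotient.mk (pL (A := A) 𝔮))
  rw [Ideal.unit_mul_mem_iff_mem _ hσu, hNρ] at h2
  have h3 := hreg i hi' (ρ m) (by rw [List.getElem_map]; exact h2)
  rw [← hNρ] at h3
  -- pull back to `P`
  have h4 : ι m ∈ N.map ι := by
    have h1 : N.map ρ = (N.map ι).map (Ideal.Quotient.mk (pL (A := A) 𝔮)) := by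
      rw [Ideal.map_map]; rfl
    rw [h1, hρι] at h3
    obtain ⟨w, hw, hwm⟩ := (Ideal.mem_map_iff_of_surjective _ Ideal.Quotient.mk_surjective).mp h3
    have h5 : ι m - w ∈ pL (A := A) 𝔮 := by
      rw [← Ideal.Quotient.eq_zero_iff_mem, map_sub, hwm, sub_self]
    have h6 : ι m = w + (ι m - w) := by ring
    rw [h6]
    refine Ideal.add_mem _ hw ?_
    rw [hNι]
    exact Ideal.mem_sup_left h5
  obtain ⟨τ, hτ, hτm⟩ :=
    (IsLocalization.algebraMap_mem_map_algebraMap_iff 𝔮.primeCompl (Localization.AtPrime 𝔮)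
      N m).mp h4
  exact ⟨τ, hτ, hτm⟩

end WR

section Nhd

variable {A P : Type u} [CommRing A] [CommRing P] [Algebra A P] [Algebra.FinitePresentation A P]
  [Module.Flat A P]

/-- (F5b,c) From `WRcond` at `𝔮` to a neighbourhood `D(t)` on which the colon ideals are
`t`-power torsion. -/
theorem exists_pow_mul_mem (𝔮 : Ideal P) [𝔮.IsPrime] (ys : List P)
    (h : RegFib.WRcond A P 𝔮 ys) :
    ∃ t : P, t ∉ 𝔮 ∧ ∀ (i : ℕ) (hi : i < ys.length) (m : P),
      ys[i] * m ∈ Ideal.ofList (ys.take i) → ∀ s : P, ∃ k : ℕ, (t * s) ^ k * m ∈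
        Ideal.ofList (ys.take i) := by
  have hflat : ∀ (q : Ideal P) [q.IsPrime], Module.Flat A (LocalizedModule q.primeCompl P) :=
    fun q _ => LimFlat.flat_localizedModule_of_flat (R := A) (B := P) (M := P) q.primeCompl
  obtain ⟨t, ht, Ht⟩ := RegFib.exists_nhd_wrcond (A := A) (M := P) ys 𝔮 (hflat 𝔮) h
  refine ⟨t, ht, ?_⟩
  intro i hi m hm s
  -- colon ideal
  let C : Ideal P := Submodule.comap (LinearMap.toSpanSingleton P P m) (Ideal.ofList (ys.take i))
  have hC : ∀ τ, τ ∈ C ↔ τ * m ∈ Ideal.ofList (ys.take i) := fun τ => Iff.rfl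
  have hrad : t * s ∈ C.radical := by
    rw [Ideal.radical_eq_sInf, Ideal.mem_sInf]
    rintro J ⟨hCJ, hJ⟩
    by_contra hts
    haveI := hJ
    have htJ : t ∉ J := fun h1 => hts (J.mul_mem_right _ h1)
    have hE := ((RegFib.wrcond_iff (A := A) (M := P) J ys (hflat J)).mp (Ht J htJ)) i hi
    obtain ⟨τ, hτ, hτx⟩ := hE.1
      (Submodule.Quotient.mk m : P ⧸ (Ideal.ofList (ys.take i) • ⊤ : Submodule P P)) (by
      show ys[i] • (Submodule.Quotient.mk m :
        P ⧸ (Ideal.ofList (ys.take i) • ⊤ : Submodule P P)) = 0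
      rw [← Submodule.Quotient.mk_smul, Submodule.Quotient.mk_eq_zero, smul_top_self]
      exact hm)
    rw [← Submodule.Quotient.mk_smul, Submodule.Quotient.mk_eq_zero, smul_top_self] at hτx
    exact hτ (hCJ ((hC τ).mpr hτx))
  obtain ⟨k, hk⟩ := hrad
  exact ⟨k, (hC _).mp hk⟩

end Nhd

section Away

variable {P : Type u} [CommRing P]

/-- (F5d) `t`-power torsion of the colon ideals gives weak regularity in `P_t`. -/
theorem isWeaklyRegular_away (t : P) (ys : List P)
    (H : ∀ (i : ℕ) (hi : i < ys.length) (m : P),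
      ys[i] * m ∈ Ideal.ofList (ys.take i) → ∃ k : ℕ, t ^ k * m ∈ Ideal.ofList (ys.take i)) :
    IsWeaklyRegular (Localization.Away t) (ys.map (algebraMap P (Localization.Away t))) := by
  rw [Spread.isWeaklyRegular_iff_forall_mem]
  intro i hi z hz
  have hi' : i < ys.length := by rwa [List.length_map] at hi
  rw [← List.map_take, ← Ideal.map_ofList, List.getElem_map] at *
  obtain ⟨m, s, rfl⟩ := IsLocalization.exists_mk'_eq (Submonoid.powers t) z
  rw [IsLocalization.mul_mk'_eq_mk'_of_mul,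
    IsLocalization.mk'_mem_map_algebraMap_iff] at hz
  rw [IsLocalization.mk'_mem_map_algebraMap_iff]
  obtain ⟨s', ⟨a, rfl⟩, hs'⟩ := hz
  have h1 : ys[i] * (t ^ a * m) ∈ Ideal.ofList (ys.take i) := by
    have : ys[i] * (t ^ a * m) = t ^ a * (ys[i] * m) := by ring
    rw [this]
    exact hs'
  obtain ⟨k, hk⟩ := H i hi' _ h1
  refine ⟨t ^ (k + a), ⟨k + a, rfl⟩, ?_⟩
  rw [pow_add, mul_assoc]
  exact hk

end Away

end Groth.Agent.H8.LCI
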