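import Mathlib
import Groth.Agent.Lib.Helper8.LCI.Fibre4
import Groth.Agent.Lib.Helper6.FiberDict

set_option autoImplicit false
set_option linter.style.haveILetI false

universe u

open Function CategoryTheory RingTheory.Sequence

namespace Groth.Agent.H8.LCI

open Groth.Agent.H1

section Core

variable {A P : Type u} [CommRing A] [CommRing P] [Algebra A P] [Algebra.FinitePresentation A P]
  [Module.Flat A P]

/-- **Core of (C6)**: `A → P` flat of finite presentation, `I ⊆ P` finitely generated with `P/I`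
flat over `A` and `I/I²` flat over `P/I`; at a prime `𝔮 ⊇ I` whose fibre local ring is regular,
`I` is generated near `𝔮` by a weakly regular sequence. -/
theorem exists_away_weaklyRegular (I : Ideal P) (hfg : I.FG) [Module.Flat A (P ⧸ I)]
    [Module.Flat (P ⧸ I) I.Cotangent] (𝔮 : Ideal P) [𝔮.IsPrime] (hI : I ≤ 𝔮)
    [IsRegularLocalRing (Localization.AtPrime 𝔮 ⧸ pL (A := A) 𝔮)] :
    ∃ g : P, g ∉ 𝔮 ∧ ∃ ys : List P,
      IsWeaklyRegular (Localization.Away g) (ys.map (algebraMap P (Localization.Away g))) ∧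
      I.map (algebraMap P (Localization.Away g)) =
        Ideal.ofList (ys.map (algebraMap P (Localization.Away g))) := by
  obtain ⟨ys, hys, hreg, hgen⟩ := exists_lift_regular (A := A) I 𝔮 hI
  obtain ⟨g₁, hg₁, Hg₁⟩ := exists_mul_mem_ofList (A := A) I 𝔮 hfg ys hys hgen
  have hwr := wrcond_of_isWeaklyRegular (A := A) 𝔮 ys hreg.toIsWeaklyRegular
  obtain ⟨t, ht, Ht⟩ := exists_pow_mul_mem (A := A) 𝔮 ys hwr
  refine ⟨t * g₁, fun h => ?_, ys, ?_, ?_⟩
  · rcases (Ideal.IsPrime.mem_or_mem inferInstance h) with h1 | h1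
    · exact ht h1
    · exact hg₁ h1
  · exact isWeaklyRegular_away (t * g₁) ys fun i hi m hm => Ht i hi m hm g₁
  · rw [← Ideal.map_ofList]
    apply le_antisymm
    · rw [Ideal.map_le_iff_le_comap]
      intro c hc
      rw [Ideal.mem_comap, IsLocalization.algebraMap_mem_map_algebraMap_iff
        (Submonoid.powers (t * g₁))]
      refine ⟨t * g₁, Submonoid.mem_powers _, ?_⟩
      rw [mul_assoc]
      exact Ideal.mul_mem_left _ _ (Hg₁ c hc)
    · exact Ideal.map_mono (Ideal.span_le.mpr hys)

end Core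

section MvPoly

variable {A : Type u} [CommRing A] (n : ℕ)

open Groth.Agent.H6

/-- The fibre local rings of a polynomial algebra are regular local rings. -/
theorem isRegularLocalRing_fibLoc_mvPolynomial (𝔮 : Ideal (MvPolynomial (Fin n) A)) [h𝔮 : 𝔮.IsPrime] :
    IsRegularLocalRing (Localization.AtPrime 𝔮 ⧸ pL (A := A) 𝔮) := by
  set p := 𝔮.comap (algebraMap A (MvPolynomial (Fin n) A)) with hp
  haveI : IsRegularRing (p.Fiber (MvPolynomial (Fin n) A)) :=
    IsRegularRing.of_ringEquiv
      (MvPolynomial.algebraTensorAlgEquiv A p.ResidueField (σ := Fin n)).symm.toRingEquiv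
  obtain ⟨P', hP', hu⟩ := FiberDict.exists_under_eq p 𝔮 rfl
  have key : ∀ (r : Ideal (MvPolynomial (Fin n) A)) (hr : r.IsPrime), FiberDict.under p P' = r →
      IsRegularLocalRing (Localization.AtPrime r ⧸ pL (A := A) r) := by
    rintro r hr rfl
    have e : Localization.AtPrime P' ≃+*
        (Localization.AtPrime (FiberDict.under p P') ⧸ pL (A := A) (FiberDict.under p P')) :=
      FiberDict.ringEquiv p P'
    exact IsRegularLocalRing.of_ringEquiv (R := Localization.AtPrime P') e
  exact key 𝔮 h𝔮 hu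

end MvPoly

end Groth.Agent.H8.LCI
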