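import Mathlib
import Groth.Prelude.Def_LCI2
import Groth.Agent.Lib.Helper8.LCI.CotLoc
import Groth.Agent.Lib.Helper5.KosCot.A

set_option autoImplicit false
set_option linter.style.haveILetI false

universe u

open Function

namespace Groth.Agent.H8.LCI

variable {P : Type u} [CommRing P] (I : Ideal P)

attribute [local instance] cotModule

theorem isLocalization_away_quot (g : P) (r : P ⧸ I) (hr : Ideal.Quotient.mk I g = r) :
    IsLocalization.Away r
      (Localization.Away g ⧸ I.map (algebraMap P (Localization.Away g))) := by
  subst hr
  have h : IsLocalization (Algebra.algebraMapSubmonoid (P ⧸ I) (Submonoid.powers g))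
      (Localization.Away g ⧸ I.map (algebraMap P (Localization.Away g))) := inferInstance
  have e : Algebra.algebraMapSubmonoid (P ⧸ I) (Submonoid.powers g) =
      Submonoid.powers (Ideal.Quotient.mk I g) := by
    show Submonoid.map _ _ = _
    rw [Submonoid.map_powers]
    rfl
  rwa [e] at h

/-- Finite presentation of `I/I²` over `P/I` is local on `Spec P/I`. -/
theorem finitePresentation_cotangent_of_span (s : Set P)
    (hs : Ideal.span (Ideal.Quotient.mk I '' s) = ⊤)
    (H : ∀ g ∈ s, Module.FinitePresentation
      (Localization.Away g ⧸ I.map (algebraMap P (Localization.Away g)))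
      (I.map (algebraMap P (Localization.Away g))).Cotangent) :
    Module.FinitePresentation (P ⧸ I) I.Cotangent := by
  classical
  let t : Set (P ⧸ I) := Ideal.Quotient.mk I '' s
  let gOf : t → P := fun r => Classical.choose r.2
  have hgOf : ∀ r : t, gOf r ∈ s ∧ Ideal.Quotient.mk I (gOf r) = r.1 :=
    fun r => Classical.choose_spec r.2
  haveI : ∀ r : t, IsLocalizedModule (Submonoid.powers r.1)
      (cotQ I (Localization.Away (gOf r))) :=
    fun r => isLocalizedModule_cotQ_away I (gOf r) r.1 (hgOf r).2
  haveI : ∀ r : t, IsLocalization.Away r.1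
      (Localization.Away (gOf r) ⧸ I.map (algebraMap P (Localization.Away (gOf r)))) :=
    fun r => isLocalization_away_quot I (gOf r) r.1 (hgOf r).2
  exact Module.FinitePresentation.of_localizationSpan' t hs
    (Mₚ := fun r => (I.map (algebraMap P (Localization.Away (gOf r)))).Cotangent)
    (Rₚ := fun r => Localization.Away (gOf r) ⧸ I.map (algebraMap P (Localization.Away (gOf r))))
    (fun r => cotQ I (Localization.Away (gOf r))) (fun r => H (gOf r) (hgOf r).1)

theorem span_image_eq_top_of_cover (s : Set P)
    (h : ∀ q : PrimeSpectrum P, I ≤ q.asIdeal → ∃ g ∈ s, g ∉ q.asIdeal) :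
    Ideal.span (Ideal.Quotient.mk I '' s) = ⊤ := by
  by_contra hne
  obtain ⟨m, hm, hle⟩ := Ideal.exists_le_maximal _ hne
  let q : PrimeSpectrum P := ⟨m.comap (Ideal.Quotient.mk I), inferInstance⟩
  have hIq : I ≤ q.asIdeal := by
    intro x hx
    show Ideal.Quotient.mk I x ∈ m
    rw [Ideal.Quotient.eq_zero_iff_mem.mpr hx]
    exact m.zero_mem
  obtain ⟨g, hgs, hgq⟩ := h q hIq
  exact hgq (hle (Ideal.subset_span ⟨g, hgs, rfl⟩))

variable {I}

/-- Around every prime containing a Koszul-regular ideal, the conormal module is finite free. -/
theorem exists_free_cotangent_of_isKoszulRegularIdeal (hI : LCI.IsKoszulRegularIdeal I)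
    (q : PrimeSpectrum P) (hq : I ≤ q.asIdeal) :
    ∃ g : P, g ∉ q.asIdeal ∧
      Module.Free (Localization.Away g ⧸ I.map (algebraMap P (Localization.Away g)))
        (I.map (algebraMap P (Localization.Away g))).Cotangent ∧
      Module.Finite (Localization.Away g ⧸ I.map (algebraMap P (Localization.Away g)))
        (I.map (algebraMap P (Localization.Away g))).Cotangent := by
  obtain ⟨g, hg, l, hl, hspan⟩ := hI q hq
  refine ⟨g, hg, ?_⟩
  set J := I.map (algebraMap P (Localization.Away g)) with hJ
  have hmem : ∀ i : Fin l.length, l.get i ∈ J := by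
    intro i
    rw [hspan]
    exact Ideal.subset_span (List.get_mem l i)
  let f : Fin l.length → J := fun i => ⟨l.get i, hmem i⟩
  have hf : LCI.IsKoszulRegularSeq (Localization.Away g)
      (List.ofFn (fun i => (f i : Localization.Away g))) := by
    have : (List.ofFn (fun i => (f i : Localization.Away g))) = l := List.ofFn_get l
    rw [this]
    exact hl
  have hfI : Ideal.span (Set.range (fun i => (f i : Localization.Away g))) = J := by
    have h1 : (Set.range fun i => (f i : Localization.Away g)) = {x | x ∈ l} :=
      Set.range_list_get l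
    rw [h1]
    exact hspan.symm
  obtain ⟨b, -⟩ := Groth.Agent.Lib.Helper5.KosCot.main l.length f hf hfI
  exact ⟨Module.Free.of_basis b, Module.Finite.of_basis b⟩

theorem flat_cotangent_of_isKoszulRegularIdeal (hI : LCI.IsKoszulRegularIdeal I) :
    Module.Flat (P ⧸ I) I.Cotangent := by
  let s : Set P := {g | Module.Free (Localization.Away g ⧸ I.map (algebraMap P (Localization.Away g)))
        (I.map (algebraMap P (Localization.Away g))).Cotangent}
  refine flat_cotangent_of_span I s (span_image_eq_top_of_cover I s fun q hq => ?_) fun g hg => ?_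
  · obtain ⟨g, hgq, hfree, -⟩ := exists_free_cotangent_of_isKoszulRegularIdeal hI q hq
    exact ⟨g, hfree, hgq⟩
  · haveI : Module.Free _ _ := hg
    infer_instance

theorem finitePresentation_cotangent_of_isKoszulRegularIdeal (hI : LCI.IsKoszulRegularIdeal I) :
    Module.FinitePresentation (P ⧸ I) I.Cotangent := by
  let s : Set P := {g |
      Module.Free (Localization.Away g ⧸ I.map (algebraMap P (Localization.Away g)))
        (I.map (algebraMap P (Localization.Away g))).Cotangent ∧
      Module.Finite (Localization.Away g ⧸ I.map (algebraMap P (Localization.Away g)))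
        (I.map (algebraMap P (Localization.Away g))).Cotangent}
  refine finitePresentation_cotangent_of_span I s
    (span_image_eq_top_of_cover I s fun q hq => ?_) fun g hg => ?_
  · obtain ⟨g, hgq, hfree, hfin⟩ := exists_free_cotangent_of_isKoszulRegularIdeal hI q hq
    exact ⟨g, ⟨hfree, hfin⟩, hgq⟩
  · haveI : Module.Free _ _ := hg.1
    haveI : Module.Finite _ _ := hg.2
    exact Module.finitePresentation_of_projective _ _

theorem projective_cotangent_of_isKoszulRegularIdeal (hI : LCI.IsKoszulRegularIdeal I) :
    Module.Projective (P ⧸ I) I.Cotangent := by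
  haveI := flat_cotangent_of_isKoszulRegularIdeal hI
  haveI := finitePresentation_cotangent_of_isKoszulRegularIdeal hI
  exact Module.Flat.projective_of_finitePresentation

end Groth.Agent.H8.LCI
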