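import Mathlib

set_option autoImplicit false

open Matrix

namespace Groth.Agent.H8.LCI

universe u

variable {B : Type u} [CommRing B] {M₁ M₀ : Type u} [AddCommGroup M₁] [Module B M₁]
  [AddCommGroup M₀] [Module B M₀]

/-- Cramer's rule as a homotopy: for `d : M₁ → M₀` with `M₀` free on `b` and `M₁` spanned by
`c_1..c_m`, with `d c_j = ∑ D i j b_i`, the adjugate of the `m × m` minor `J` of `D` on the first `m`
rows defines `h : M₀ → M₁` with `h ∘ d = det J`. -/
theorem exists_adjugate_homotopy {n m : ℕ} (hmn : m ≤ n) (d : M₁ →ₗ[B] M₀)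
    (b : Module.Basis (Fin n) B M₀) (c : Fin m → M₁) (hc : Submodule.span B (Set.range c) = ⊤)
    (D : Fin n → Fin m → B) (hD : ∀ j, d (c j) = ∑ i, D i j • b i) :
    ∃ h : M₀ →ₗ[B] M₁,
      (∀ x, h (d x) = (Matrix.of fun i j : Fin m => D (Fin.castLE hmn i) j).det • x) ∧
      (n = m → ∀ y, d (h y) = (Matrix.of fun i j : Fin m => D (Fin.castLE hmn i) j).det • y) := by
  classical
  set J : Matrix (Fin m) (Fin m) B := Matrix.of fun i j : Fin m => D (Fin.castLE hmn i) j with hJ
  let h : M₀ →ₗ[B] M₁ := b.constr B (fun i : Fin n =>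
    if hi : (i : ℕ) < m then ∑ k, J.adjugate k ⟨i, hi⟩ • c k else 0)
  have hb : ∀ i' : Fin m, h (b (Fin.castLE hmn i')) = ∑ k, J.adjugate k i' • c k := by
    intro i'
    rw [Module.Basis.constr_basis]
    have : ((Fin.castLE hmn i' : Fin n) : ℕ) < m := i'.2
    rw [dif_pos this]
    rfl
  have hb0 : ∀ i : Fin n, ¬ (i : ℕ) < m → h (b i) = 0 := by
    intro i hi
    rw [Module.Basis.constr_basis, dif_neg hi]
  have hsum : ∀ (F : Fin n → M₁), (∀ i : Fin n, ¬ (i : ℕ) < m → F i = 0) →
      ∑ i, F i = ∑ i' : Fin m, F (Fin.castLE hmn i') := by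
    intro F hF
    symm
    apply Fintype.sum_of_injective (Fin.castLE hmn) (Fin.castLE_injective hmn)
    · intro i hi
      apply hF
      intro him
      exact hi ⟨⟨i, him⟩, rfl⟩
    · intro i
      rfl
  have hdc : ∀ j, h (d (c j)) = J.det • c j := by
    intro j
    rw [hD, map_sum]
    simp only [map_smul]
    rw [hsum _ (fun i hi => by rw [hb0 i hi, smul_zero])]
    simp only [hb, Finset.smul_sum, smul_smul]
    rw [Finset.sum_comm]
    have h1 : ∀ k, ∑ i' : Fin m, (D (Fin.castLE hmn i') j * J.adjugate k i') • c k =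
        ((J.adjugate * J) k j) • c k := by
      intro k
      rw [← Finset.sum_smul, Matrix.mul_apply]
      congr 1
      apply Finset.sum_congr rfl
      intro i' _
      rw [mul_comm]
      rfl
    simp only [h1, Matrix.adjugate_mul, Matrix.smul_apply, Matrix.one_apply, smul_eq_mul,
      mul_ite, mul_one, mul_zero, ite_smul, zero_smul]
    rw [Finset.sum_ite_eq']
    simp
  refine ⟨h, ?_, ?_⟩
  · intro x
    have hx : x ∈ Submodule.span B (Set.range c) := by rw [hc]; trivial
    induction hx using Submodule.span_induction with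
    | mem y hy =>
      obtain ⟨j, rfl⟩ := hy
      exact hdc j
    | zero => simp
    | add y z _ _ hy hz => rw [map_add, map_add, hy, hz, smul_add]
    | smul a y _ hy => rw [map_smul, map_smul, hy, smul_comm]
  · intro hnm
    subst hnm
    have hcast : ∀ i : Fin n, Fin.castLE hmn i = i := fun i => rfl
    have hdb : ∀ i, d (h (b i)) = J.det • b i := by
      intro i
      have := hb i
      rw [hcast] at this
      rw [this, map_sum]
      simp only [map_smul, hD, Finset.smul_sum, smul_smul]
      rw [Finset.sum_comm]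
      have h1 : ∀ l, ∑ k : Fin n, (J.adjugate k i * D l k) • b l =
          ((J * J.adjugate) l i) • b l := by
        intro l
        rw [← Finset.sum_smul, Matrix.mul_apply]
        congr 1
        apply Finset.sum_congr rfl
        intro k _
        rw [mul_comm]
        rfl
      simp only [h1, Matrix.mul_adjugate, Matrix.smul_apply, Matrix.one_apply, smul_eq_mul,
        mul_ite, mul_one, mul_zero, ite_smul, zero_smul]
      rw [Finset.sum_ite_eq']
      simp
    intro y
    have : (d ∘ₗ h) = J.det • LinearMap.id := by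
      apply b.ext
      intro i
      simp only [LinearMap.comp_apply, hdb, LinearMap.smul_apply, LinearMap.id_apply]
    exact LinearMap.congr_fun this y

end Groth.Agent.H8.LCI
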