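import Mathlib
import Groth.Prelude
import Groth.Agent.Lib.Helper8.LCI.Adj

set_option autoImplicit false
set_option linter.style.haveILetI false

open Algebra

namespace Groth.Agent.H8.LCI

open MvPolynomial

universe u

section gen
variable {A B : Type u} [CommRing A] [CommRing B] [Algebra A B] {n m : ℕ} (hmn : m ≤ n)
  (G : Generators A B (Fin n)) 

set_option maxHeartbeats 400000 in
theorem cotangentComplex_mk_eq_sum (p : G.toExtension.ker) :
    G.toExtension.cotangentComplex (Extension.Cotangent.mk p) =
      ∑ i, (aeval G.val (pderiv i p.1) : B) • G.cotangentSpaceBasis i := by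
  rw [← G.cotangentSpaceBasis.sum_repr (G.toExtension.cotangentComplex (Extension.Cotangent.mk p))]
  apply Finset.sum_congr rfl
  intro i _
  congr 1
  rw [Extension.cotangentComplex_mk]
  exact Generators.cotangentSpaceBasis_repr_one_tmul G _ _

variable (f : Fin m → G.toExtension.Ring)
  (hker : Ideal.span (Set.range f) = G.toExtension.ker)

set_option maxHeartbeats 400000 in
include hker in
theorem span_c_eq_top :
    Submodule.span B (Set.range (fun k : Fin m => (Extension.Cotangent.mk
      ⟨f k, hker.le (Ideal.subset_span ⟨k, rfl⟩)⟩ : G.toExtension.Cotangent))) = ⊤ :=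
  Extension.Cotangent.span_eq_top_of_span_eq_ker (P := G.toExtension) f hker

set_option maxHeartbeats 400000 in
include hker in
theorem exists_jac_homotopy :
    ∃ h : G.toExtension.CotangentSpace →ₗ[B] G.toExtension.Cotangent,
      (∀ x, h (G.toExtension.cotangentComplex x) =
        (Matrix.of fun i j : Fin m => aeval G.val (pderiv (Fin.castLE hmn i) (f j))).det • x) ∧
      (n = m → ∀ y, G.toExtension.cotangentComplex (h y) =
        (Matrix.of fun i j : Fin m => aeval G.val (pderiv (Fin.castLE hmn i) (f j))).det • y) := by
  have hD : ∀ j, G.toExtension.cotangentComplex ((Extension.Cotangent.mk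
      ⟨f j, hker.le (Ideal.subset_span ⟨j, rfl⟩)⟩ : G.toExtension.Cotangent)) =
      ∑ i, (aeval G.val (pderiv i (f j)) : B) • G.cotangentSpaceBasis i := by
    intro j
    exact cotangentComplex_mk_eq_sum G _
  exact exists_adjugate_homotopy hmn G.toExtension.cotangentComplex
    G.cotangentSpaceBasis _ (span_c_eq_top G f hker) (fun i j => aeval G.val (pderiv i (f j))) hD

end gen
end Groth.Agent.H8.LCI
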