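import Mathlib

/-!
# Quasi-isomorphisms between complexes of modules concentrated in degrees `-1, 0`
-/

set_option autoImplicit false

open CategoryTheory CategoryTheory.Limits

namespace Groth.Agent.H8.LCI

universe u
variable {B : Type u} [CommRing B]

/-- complexes concentrated in degrees `-1`, `0`. -/
def In10 (K : CochainComplex (ModuleCat.{u} B) ℤ) : Prop :=
  ∀ i : ℤ, i ≠ -1 → i ≠ 0 → IsZero (K.X i)

variable {K K' : CochainComplex (ModuleCat.{u} B) ℤ}

/-- the differential `K⁻¹ → K⁰` as a linear map. -/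
abbrev dl (K : CochainComplex (ModuleCat.{u} B) ℤ) : K.X (-1) →ₗ[B] K.X 0 := (K.d (-1) 0).hom

lemma comm_apply (F : K ⟶ K') (x : K.X (-1)) :
    (F.f 0).hom (dl K x) = dl K' ((F.f (-1)).hom x) := by
  have h := F.comm (-1) 0
  have h' := congrArg (fun φ => φ.hom x) h
  simp only [ModuleCat.hom_comp, LinearMap.coe_comp, Function.comp_apply] at h'
  exact h'.symm

/-- induced map on kernels. -/
def kerMap (F : K ⟶ K') : LinearMap.ker (dl K) →ₗ[B] LinearMap.ker (dl K') :=
  LinearMap.restrict (F.f (-1)).hom (by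
    intro x hx
    rw [LinearMap.mem_ker] at hx ⊢
    rw [← comm_apply, hx, map_zero])

@[simp] lemma kerMap_coe (F : K ⟶ K') (x : LinearMap.ker (dl K)) :
    ((kerMap F x : LinearMap.ker (dl K')) : K'.X (-1)) = (F.f (-1)).hom x := rfl

/-- induced map on cokernels. -/
def cokerMap (F : K ⟶ K') :
    (K.X 0 ⧸ LinearMap.range (dl K)) →ₗ[B] (K'.X 0 ⧸ LinearMap.range (dl K')) :=
  Submodule.mapQ _ _ (F.f 0).hom (by
    rintro _ ⟨x, rfl⟩
    exact ⟨(F.f (-1)).hom x, (comm_apply F x).symm⟩)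

@[simp] lemma cokerMap_mk (F : K ⟶ K') (x : K.X 0) :
    cokerMap F (Submodule.Quotient.mk x) = Submodule.Quotient.mk ((F.f 0).hom x) := rfl

lemma quasiIsoAt_neg_one_iff (hK : In10 K) (hK' : In10 K') (F : K ⟶ K') :
    QuasiIsoAt F (-1) ↔ Function.Bijective (kerMap F) := by
  rw [_root_.quasiIsoAt_iff' F (-2) (-1) 0 (by simp) (by simp)]
  have hf₁ : (K.sc' (-2) (-1) 0).f = 0 := (hK (-2) (by decide) (by decide)).eq_of_src _ _
  have hf₂ : (K'.sc' (-2) (-1) 0).f = 0 := (hK' (-2) (by decide) (by decide)).eq_of_src _ _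
  let γ := ShortComplex.LeftHomologyMapData.ofIsLimitKernelFork
    ((HomologicalComplex.shortComplexFunctor' (ModuleCat.{u} B) (ComplexShape.up ℤ) (-2) (-1) 0).map F)
    hf₁ (ModuleCat.kernelCone (K.d (-1) 0)) (ModuleCat.kernelIsLimit _)
    hf₂ (ModuleCat.kernelCone (K'.d (-1) 0)) (ModuleCat.kernelIsLimit _)
    (ModuleCat.ofHom (kerMap F)) (by
      ext x
      rfl)
  rw [γ.quasiIso_iff]
  change IsIso (ModuleCat.ofHom (kerMap F)) ↔ _
  rw [ConcreteCategory.isIso_iff_bijective]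
  rfl

lemma quasiIsoAt_zero_iff (hK : In10 K) (hK' : In10 K') (F : K ⟶ K') :
    QuasiIsoAt F 0 ↔ Function.Bijective (cokerMap F) := by
  rw [_root_.quasiIsoAt_iff' F (-1) 0 1 (by simp) (by simp)]
  have hg₁ : (K.sc' (-1) 0 1).g = 0 := (hK 1 (by decide) (by decide)).eq_of_tgt _ _
  have hg₂ : (K'.sc' (-1) 0 1).g = 0 := (hK' 1 (by decide) (by decide)).eq_of_tgt _ _
  let γ := ShortComplex.RightHomologyMapData.ofIsColimitCokernelCofork
    ((HomologicalComplex.shortComplexFunctor' (ModuleCat.{u} B) (ComplexShape.up ℤ) (-1) 0 1).map F)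
    hg₁ (ModuleCat.cokernelCocone (K.d (-1) 0)) (ModuleCat.cokernelIsColimit _)
    hg₂ (ModuleCat.cokernelCocone (K'.d (-1) 0)) (ModuleCat.cokernelIsColimit _)
    (ModuleCat.ofHom (cokerMap F)) (by
      ext x
      rfl)
  rw [γ.quasiIso_iff]
  change IsIso (ModuleCat.ofHom (cokerMap F)) ↔ _
  rw [ConcreteCategory.isIso_iff_bijective]
  rfl

lemma exactAt_of_isZero (K : CochainComplex (ModuleCat.{u} B) ℤ) (i : ℤ) (h : IsZero (K.X i)) :
    K.ExactAt i := by
  rw [HomologicalComplex.exactAt_iff]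
  exact ShortComplex.exact_of_isZero_X₂ _ h

theorem quasiIso_iff (hK : In10 K) (hK' : In10 K') (F : K ⟶ K') :
    QuasiIso F ↔ Function.Bijective (kerMap F) ∧ Function.Bijective (cokerMap F) := by
  rw [_root_.quasiIso_iff]
  constructor
  · intro h
    exact ⟨(quasiIsoAt_neg_one_iff hK hK' F).mp (h (-1)), (quasiIsoAt_zero_iff hK hK' F).mp (h 0)⟩
  · rintro ⟨h1, h2⟩ i
    by_cases hi1 : i = -1
    · subst hi1; exact (quasiIsoAt_neg_one_iff hK hK' F).mpr h1
    by_cases hi0 : i = 0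
    · subst hi0; exact (quasiIsoAt_zero_iff hK hK' F).mpr h2
    rw [_root_.quasiIsoAt_iff_exactAt F i (exactAt_of_isZero K i (hK i hi1 hi0))]
    exact exactAt_of_isZero K' i (hK' i hi1 hi0)

end Groth.Agent.H8.LCI
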