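import Mathlib
import Groth.Agent.Lib.Helper8.LCI.QI

/-!
# Two-term complexes `HomologicalComplex.double` of modules in degrees `-1, 0`
-/

set_option autoImplicit false

open CategoryTheory CategoryTheory.Limits HomologicalComplex

namespace Groth.Agent.H8.LCI

universe u
variable {B : Type u} [CommRing B]

lemma rel10 : (ComplexShape.up ℤ).Rel (-1) 0 := by simp

lemma ne10 : (-1 : ℤ) ≠ 0 := by decide

section
variable {M N : Type u} [AddCommGroup M] [Module B M] [AddCommGroup N] [Module B N]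
  (φ : M →ₗ[B] N)

/-- the two-term complex `M → N` in degrees `-1, 0`. -/
noncomputable abbrev dbl : CochainComplex (ModuleCat.{u} B) ℤ :=
  HomologicalComplex.double (ModuleCat.ofHom φ) rel10

lemma in10_dbl : In10 (dbl φ) := fun i h1 h0 => isZero_double_X _ _ i h1 h0

/-- degree `-1` term. -/
noncomputable def eM : (dbl φ).X (-1) ≃ₗ[B] M :=
  (doubleXIso₀ (ModuleCat.ofHom φ) rel10).toLinearEquiv

/-- degree `0` term. -/
noncomputable def eN : (dbl φ).X 0 ≃ₗ[B] N :=
  (doubleXIso₁ (ModuleCat.ofHom φ) rel10 ne10).toLinearEquiv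

lemma eN_dl (x : (dbl φ).X (-1)) : eN φ (dl (dbl φ) x) = φ (eM φ x) := by
  have h := double_d (ModuleCat.ofHom φ) rel10 ne10
  have h' := congrArg (fun ψ => (doubleXIso₁ (ModuleCat.ofHom φ) rel10 ne10).hom.hom (ψ.hom x)) h
  simp only [ModuleCat.hom_comp, LinearMap.coe_comp, Function.comp_apply] at h'
  change (doubleXIso₁ (ModuleCat.ofHom φ) rel10 ne10).hom.hom (((dbl φ).d (-1) 0).hom x) = _
  rw [h']
  have : ∀ y, (doubleXIso₁ (ModuleCat.ofHom φ) rel10 ne10).hom.hom
      ((doubleXIso₁ (ModuleCat.ofHom φ) rel10 ne10).inv.hom y) = y := by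
    intro y
    rw [← LinearMap.comp_apply, ← ModuleCat.hom_comp, Iso.inv_hom_id]
    rfl
  rw [this]
  rfl

lemma dl_symm (m : M) : dl (dbl φ) ((eM φ).symm m) = (eN φ).symm (φ m) := by
  apply (eN φ).injective
  rw [eN_dl, LinearEquiv.apply_symm_apply, LinearEquiv.apply_symm_apply]

end

section map
variable {M N M' N' : Type u} [AddCommGroup M] [Module B M] [AddCommGroup N] [Module B N]
  [AddCommGroup M'] [Module B M'] [AddCommGroup N'] [Module B N']
  {φ : M →ₗ[B] N} {φ' : M' →ₗ[B] N'} (a : M →ₗ[B] M') (b : N →ₗ[B] N')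
  (hab : ∀ m, φ' (a m) = b (φ m))

/-- chain map from a commutative square. -/
noncomputable def dblMap : dbl φ ⟶ dbl φ' :=
  mkHomFromDouble rel10 ne10
    (ModuleCat.ofHom a ≫ (doubleXIso₀ (ModuleCat.ofHom φ') rel10).inv)
    (ModuleCat.ofHom b ≫ (doubleXIso₁ (ModuleCat.ofHom φ') rel10 ne10).inv)
    (by
      rw [double_d _ _ ne10, Category.assoc, Iso.inv_hom_id_assoc, ← Category.assoc,
        ← Category.assoc]
      congr 1
      ext m
      exact hab m)
    (by
      intro k _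
      rw [double_d_eq_zero₀ _ _ _ _ ne10.symm, comp_zero])

lemma dblMap_f_neg_one (x : (dbl φ).X (-1)) :
    eM φ' (((dblMap a b hab).f (-1)).hom x) = a (eM φ x) := by
  have h : (dblMap a b hab).f (-1) = _ := mkHomFromDouble_f₀ rel10 ne10 _ _ _ _
  rw [h]
  simp only [ModuleCat.hom_comp, LinearMap.coe_comp, Function.comp_apply]
  change (doubleXIso₀ (ModuleCat.ofHom φ') rel10).hom.hom
    ((doubleXIso₀ (ModuleCat.ofHom φ') rel10).inv.hom _) = _
  rw [← LinearMap.comp_apply, ← ModuleCat.hom_comp, Iso.inv_hom_id]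
  rfl

lemma dblMap_f_zero (x : (dbl φ).X 0) :
    eN φ' (((dblMap a b hab).f 0).hom x) = b (eN φ x) := by
  have h : (dblMap a b hab).f 0 = _ := mkHomFromDouble_f₁ rel10 ne10 _ _ _ _
  rw [h]
  simp only [ModuleCat.hom_comp, LinearMap.coe_comp, Function.comp_apply]
  change (doubleXIso₁ (ModuleCat.ofHom φ') rel10 ne10).hom.hom
    ((doubleXIso₁ (ModuleCat.ofHom φ') rel10 ne10).inv.hom _) = _
  rw [← LinearMap.comp_apply, ← ModuleCat.hom_comp, Iso.inv_hom_id]
  rfl

/-- quasi-isomorphism criterion for maps of two-term complexes. -/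
theorem quasiIso_dblMap
    (hker : ∀ m' : M', φ' m' = 0 → ∃! m : M, φ m = 0 ∧ a m = m')
    (hcoker_inj : ∀ n : N, b n ∈ LinearMap.range φ' → n ∈ LinearMap.range φ)
    (hcoker_surj : ∀ n' : N', ∃ n : N, n' - b n ∈ LinearMap.range φ') :
    QuasiIso (dblMap a b hab) := by
  rw [quasiIso_iff (in10_dbl φ) (in10_dbl φ')]
  refine ⟨⟨?_, ?_⟩, ⟨?_, ?_⟩⟩
  · -- injective on kernels
    rw [injective_iff_map_eq_zero]
    intro x hx
    have hx0 : dl (dbl φ) x.1 = 0 := x.2
    have h1 : φ (eM φ x.1) = 0 := by rw [← eN_dl, hx0, map_zero]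
    have h2 : a (eM φ x.1) = 0 := by
      rw [← dblMap_f_neg_one a b hab]
      have : ((dblMap a b hab).f (-1)).hom x.1 = 0 := congrArg Subtype.val hx
      rw [this, map_zero]
    obtain ⟨m, -, hm⟩ := hker 0 (map_zero _)
    have e1 := hm (eM φ x.1) ⟨h1, h2⟩
    have e2 := hm 0 ⟨map_zero _, map_zero _⟩
    apply Subtype.ext
    apply (eM φ).injective
    rw [e1, ← e2]
    simp
  · -- surjective on kernels
    intro y
    have hy0 : dl (dbl φ') y.1 = 0 := y.2
    have h1 : φ' (eM φ' y.1) = 0 := by rw [← eN_dl, hy0, map_zero]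
    obtain ⟨m, ⟨hm1, hm2⟩, -⟩ := hker _ h1
    refine ⟨⟨(eM φ).symm m, ?_⟩, ?_⟩
    · rw [LinearMap.mem_ker, dl_symm, hm1, map_zero]
    · apply Subtype.ext
      apply (eM φ').injective
      change eM φ' (((dblMap a b hab).f (-1)).hom ((eM φ).symm m)) = _
      rw [dblMap_f_neg_one, LinearEquiv.apply_symm_apply, hm2]
  · -- injective on cokernels
    rw [injective_iff_map_eq_zero]
    intro z hz
    obtain ⟨x, rfl⟩ := Submodule.Quotient.mk_surjective _ z
    rw [cokerMap_mk, Submodule.Quotient.mk_eq_zero] at hz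
    obtain ⟨w, hw⟩ := hz
    have h1 : b (eN φ x) ∈ LinearMap.range φ' := by
      refine ⟨eM φ' w, ?_⟩
      rw [← eN_dl, hw, dblMap_f_zero]
    obtain ⟨m, hm⟩ := hcoker_inj _ h1
    rw [Submodule.Quotient.mk_eq_zero]
    refine ⟨(eM φ).symm m, ?_⟩
    rw [dl_symm, hm, LinearEquiv.symm_apply_apply]
  · -- surjective on cokernels
    intro z
    obtain ⟨y, rfl⟩ := Submodule.Quotient.mk_surjective _ z
    obtain ⟨n, m', hm'⟩ := hcoker_surj (eN φ' y)
    refine ⟨Submodule.Quotient.mk ((eN φ).symm n), ?_⟩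
    rw [cokerMap_mk, eq_comm, ← sub_eq_zero, ← Submodule.Quotient.mk_sub,
      Submodule.Quotient.mk_eq_zero]
    refine ⟨(eM φ').symm m', ?_⟩
    apply (eN φ').injective
    rw [dl_symm, LinearEquiv.apply_symm_apply, hm', map_sub, dblMap_f_zero,
      LinearEquiv.apply_symm_apply]

end map

end Groth.Agent.H8.LCI
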