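import Mathlib
import Groth.Prelude
import Groth.Agent.Lib.Helper8.LCI.Dbl

/-!
# Morphisms out of two-term complexes in the derived category
-/

set_option autoImplicit false
set_option linter.style.haveILetI false

open CategoryTheory CategoryTheory.Limits HomologicalComplex

attribute [local instance] HasDerivedCategory.standard

namespace Groth.Agent.H8.LCI

open DerivedCategory

universe u
variable {B : Type u} [CommRing B]

section ext
variable {M N M' N' : Type u} [AddCommGroup M] [Module B M] [AddCommGroup N] [Module B N]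
  [AddCommGroup M'] [Module B M'] [AddCommGroup N'] [Module B N']
  {φ : M →ₗ[B] N} {φ' : M' →ₗ[B] N'}

lemma dbl_hom_ext {F G : dbl φ ⟶ dbl φ'}
    (h1 : ∀ x, eM φ' ((F.f (-1)).hom x) = eM φ' ((G.f (-1)).hom x))
    (h0 : ∀ x, eN φ' ((F.f 0).hom x) = eN φ' ((G.f 0).hom x)) : F = G := by
  apply from_double_hom_ext
  · ext x; exact (eM φ').injective (h1 x)
  · ext x; exact (eN φ').injective (h0 x)

end ext

section zero
variable {M N : Type u} [AddCommGroup M] [Module B M] [AddCommGroup N] [Module B N]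
  (φ : M →ₗ[B] N)

theorem isZero_Q_dbl_of_bijective (hφ : Function.Bijective φ) : IsZero (Q.obj (dbl φ)) := by
  have hq : QuasiIso (dblMap (φ := φ) (φ' := φ) (0 : M →ₗ[B] M) (0 : N →ₗ[B] N)
      (fun m => by simp)) := by
    apply quasiIso_dblMap
    · intro m' hm'
      have : m' = 0 := hφ.1 (by rw [hm', map_zero])
      subst this
      refine ⟨0, ⟨map_zero _, rfl⟩, ?_⟩
      rintro y ⟨hy, -⟩
      exact hφ.1 (by rw [hy, map_zero])
    · intro n _
      exact hφ.2 n
    · intro n'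
      obtain ⟨m, hm⟩ := hφ.2 n'
      exact ⟨0, m, by simp [hm]⟩
  have h0 : dblMap (φ := φ) (φ' := φ) (0 : M →ₗ[B] M) (0 : N →ₗ[B] N) (fun m => by simp) = 0 := by
    apply dbl_hom_ext
    · intro x
      rw [dblMap_f_neg_one]
      simp
    · intro x
      rw [dblMap_f_zero]
      simp
  rw [h0] at hq
  have hiso : IsIso (Q.map (0 : dbl φ ⟶ dbl φ)) :=
    (isIso_Q_map_iff_quasiIso (φ := (0 : dbl φ ⟶ dbl φ))).mpr hq
  rw [IsZero.iff_id_eq_zero]
  have h1 := IsIso.hom_inv_id (Q.map (0 : dbl φ ⟶ dbl φ))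
  have h2 : Q.map (0 : dbl φ ⟶ dbl φ) = 0 := Functor.map_zero _ _ _
  have h3 : ∀ (ψ : Q.obj (dbl φ) ⟶ Q.obj (dbl φ)) (χ : Q.obj (dbl φ) ⟶ Q.obj (dbl φ)),
      ψ = 0 → ψ ≫ χ = 𝟙 _ → 𝟙 (Q.obj (dbl φ)) = 0 := by
    rintro ψ χ rfl h
    rw [← h, zero_comp]
  exact h3 _ _ h2 h1

end zero

section homotopy
variable {M N : Type u} [AddCommGroup M] [Module B M] [AddCommGroup N] [Module B N]
  (φ : M →ₗ[B] N)

theorem Q_map_dblMap_eq_zero_of_homotopy (h : N →ₗ[B] M) :
    Q.map (dblMap (φ := φ) (φ' := φ) (h ∘ₗ φ) (φ ∘ₗ h) (fun m => rfl)) = 0 := by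
  have hfac : dblMap (φ := φ) (φ' := φ) (h ∘ₗ φ) (φ ∘ₗ h) (fun m => rfl) =
      dblMap (φ := φ) (φ' := (LinearMap.id : N →ₗ[B] N)) φ LinearMap.id (fun m => rfl) ≫
        dblMap (φ := (LinearMap.id : N →ₗ[B] N)) (φ' := φ) h (φ ∘ₗ h) (fun m => rfl) := by
    apply dbl_hom_ext
    · intro x
      rw [HomologicalComplex.comp_f, ModuleCat.hom_comp, LinearMap.comp_apply, dblMap_f_neg_one,
        dblMap_f_neg_one, dblMap_f_neg_one]
      rfl
    · intro x
      rw [HomologicalComplex.comp_f, ModuleCat.hom_comp, LinearMap.comp_apply, dblMap_f_zero,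
        dblMap_f_zero, dblMap_f_zero]
      rfl
  rw [hfac, Functor.map_comp]
  have hz := isZero_Q_dbl_of_bijective (LinearMap.id : N →ₗ[B] N) Function.bijective_id
  rw [hz.eq_of_tgt (Q.map (dblMap (φ := φ) (φ' := (LinearMap.id : N →ₗ[B] N)) φ LinearMap.id
    (fun m => rfl))) 0, zero_comp]

end homotopy

section single
variable {M N : Type u} [AddCommGroup M] [Module B M] [AddCommGroup N] [Module B N]
  (φ : M →ₗ[B] N)

/-- the inclusion of the degree-`0` term. -/
noncomputable def fromSingle :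
    (HomologicalComplex.single (ModuleCat.{u} B) (ComplexShape.up ℤ) 0).obj (ModuleCat.of B N) ⟶ dbl φ :=
  HomologicalComplex.mkHomFromSingle (doubleXIso₁ (ModuleCat.ofHom φ) rel10 ne10).inv (by
    intro k _
    rw [double_d_eq_zero₀ _ _ 0 k (by decide), comp_zero])

/-- a map to the degree-`0` term killing the image of the differential. -/
noncomputable def toSingle (θ : N →ₗ[B] N) (hθ : ∀ m, θ (φ m) = 0) :
    dbl φ ⟶ (HomologicalComplex.single (ModuleCat.{u} B) (ComplexShape.up ℤ) 0).obj (ModuleCat.of B N) :=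
  HomologicalComplex.mkHomToSingle
    ((doubleXIso₁ (ModuleCat.ofHom φ) rel10 ne10).hom ≫ ModuleCat.ofHom θ) (by
    intro i hi
    have hi' : i = -1 := by
      have : i + 1 = 0 := hi
      omega
    subst hi'
    rw [double_d _ _ ne10, Category.assoc, Category.assoc, Iso.inv_hom_id_assoc]
    have : ModuleCat.ofHom φ ≫ ModuleCat.ofHom θ = 0 := by
      ext m
      exact hθ m
    rw [this, comp_zero])

theorem toSingle_comp_fromSingle (θ : N →ₗ[B] N) (hθ : ∀ m, θ (φ m) = 0) :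
    toSingle φ θ hθ ≫ fromSingle φ =
      dblMap (φ := φ) (φ' := φ) (0 : M →ₗ[B] M) θ (fun m => by simp [hθ m]) := by
  apply from_double_hom_ext
  · have hz : IsZero (((HomologicalComplex.single (ModuleCat.{u} B) (ComplexShape.up ℤ) 0).obj
        (ModuleCat.of B N)).X (-1)) :=
      HomologicalComplex.isZero_single_obj_X _ _ _ _ (by decide)
    rw [HomologicalComplex.comp_f, hz.eq_of_tgt ((toSingle φ θ hθ).f (-1)) 0, zero_comp]
    have h : (dblMap (φ := φ) (φ' := φ) (0 : M →ₗ[B] M) θ (fun m => by simp [hθ m])).f (-1) = _ :=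
      mkHomFromDouble_f₀ rel10 ne10 _ _ _ _
    rw [h]
    have : ModuleCat.ofHom (0 : M →ₗ[B] M) = 0 := rfl
    rw [this, zero_comp, comp_zero]
  · have h : (dblMap (φ := φ) (φ' := φ) (0 : M →ₗ[B] M) θ (fun m => by simp [hθ m])).f 0 = _ :=
      mkHomFromDouble_f₁ rel10 ne10 _ _ _ _
    rw [h, HomologicalComplex.comp_f]
    have h1 : (toSingle φ θ hθ).f 0 = _ := HomologicalComplex.mkHomToSingle_f _ _
    have h2 : (fromSingle φ).f 0 = _ := HomologicalComplex.mkHomFromSingle_f _ _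
    rw [h1, h2, Category.assoc, Category.assoc, Iso.inv_hom_id_assoc]

end single

section main
variable {M N : Type u} [AddCommGroup M] [Module B M] [AddCommGroup N] [Module B N]
  (φ : M →ₗ[B] N)

/-- morphisms from a projective module in degree `0` to a module in degree `-1` vanish. -/
theorem hom_single_shift_eq_zero [Module.Projective B N] (X : Type u) [AddCommGroup X] [Module B X]
    (ψ : Q.obj ((HomologicalComplex.single (ModuleCat.{u} B) (ComplexShape.up ℤ) 0).obj
      (ModuleCat.of B N)) ⟶ (Dual.inD B X)⟦(1 : ℤ)⟧) : ψ = 0 := by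
  let K := (CochainComplex.singleFunctor (ModuleCat.{u} B) 0).obj (ModuleCat.of B X)
  haveI : (K⟦(1 : ℤ)⟧).IsStrictlyLE (-1) := K.isStrictlyLE_shift 0 1 (-1) (by norm_num)
  let e : Q.obj (K⟦(1 : ℤ)⟧) ≅ (Dual.inD B X)⟦(1 : ℤ)⟧ := (Q.commShiftIso (1 : ℤ)).app K
  have h0 : ψ ≫ e.inv = 0 :=
    from_singleFunctor_obj_eq_zero_of_projective
      (L := K⟦(1 : ℤ)⟧) (i := 0) (ψ ≫ e.inv) (-1) (by norm_num)
  calc ψ = (ψ ≫ e.inv) ≫ e.hom := by rw [Category.assoc, e.inv_hom_id]; exact (Category.comp_id ψ).symm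
    _ = 0 := by rw [h0, zero_comp]

lemma smul_id_f_apply (g : B) (i : ℤ) (x : (dbl φ).X i) :
    ((g • 𝟙 (dbl φ)).f i).hom x = g • x := by
  rw [HomologicalComplex.smul_f_apply, HomologicalComplex.id_f]
  rfl

/-- If `h ∘ d = g` then `g` kills every morphism `[M → N] ⟶ X[1]` in `D(B)` (`N` projective). -/
theorem smul_comp_eq_zero_of_homotopy [Module.Projective B N] (g : B) (h : N →ₗ[B] M)
    (hd : ∀ x, h (φ x) = g • x) (X : Type u) [AddCommGroup X] [Module B X]
    (ψ : Q.obj (dbl φ) ⟶ (Dual.inD B X)⟦(1 : ℤ)⟧) : g • ψ = 0 := by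
  set θ : N →ₗ[B] N := g • LinearMap.id - φ ∘ₗ h with hθdef
  have hθ : ∀ m, θ (φ m) = 0 := by
    intro m
    simp only [hθdef, LinearMap.sub_apply, LinearMap.smul_apply, LinearMap.id_apply,
      LinearMap.comp_apply, hd, map_smul, sub_self]
  have hsum : g • 𝟙 (dbl φ) =
      dblMap (φ := φ) (φ' := φ) (h ∘ₗ φ) (φ ∘ₗ h) (fun m => rfl) +
        dblMap (φ := φ) (φ' := φ) (0 : M →ₗ[B] M) θ (fun m => by simp [hθ m]) := by
    apply dbl_hom_ext
    · intro x
      rw [smul_id_f_apply, HomologicalComplex.add_f_apply, ModuleCat.hom_add, LinearMap.add_apply,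
        map_add, dblMap_f_neg_one, dblMap_f_neg_one, map_smul]
      simp [hd]
    · intro x
      rw [smul_id_f_apply, HomologicalComplex.add_f_apply, ModuleCat.hom_add, LinearMap.add_apply,
        map_add, dblMap_f_zero, dblMap_f_zero, map_smul]
      simp [hθdef]
  have h1 : g • ψ = Q.map (g • 𝟙 (dbl φ)) ≫ ψ := by
    rw [Functor.map_smul, CategoryTheory.Functor.map_id, Linear.smul_comp, Category.id_comp]
  rw [h1, hsum, Functor.map_add, Q_map_dblMap_eq_zero_of_homotopy, zero_add,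
    ← toSingle_comp_fromSingle φ θ hθ, Functor.map_comp, Category.assoc,
    hom_single_shift_eq_zero X (Q.map (fromSingle φ) ≫ ψ), comp_zero]

/-- If `h ∘ d = g` and `d ∘ h = g` then `g` acts as zero on `[M → N]` in `D(B)`. -/
theorem smul_id_eq_zero_of_homotopy (g : B) (h : N →ₗ[B] M)
    (hd : ∀ x, h (φ x) = g • x) (hd' : ∀ y, φ (h y) = g • y) :
    g • 𝟙 (Q.obj (dbl φ)) = 0 := by
  have hsum : g • 𝟙 (dbl φ) =
      dblMap (φ := φ) (φ' := φ) (h ∘ₗ φ) (φ ∘ₗ h) (fun m => rfl) := by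
    apply dbl_hom_ext
    · intro x
      rw [smul_id_f_apply, dblMap_f_neg_one, map_smul]
      simp [hd]
    · intro x
      rw [smul_id_f_apply, dblMap_f_zero, map_smul]
      simp [hd']
  have h1 : g • 𝟙 (Q.obj (dbl φ)) = Q.map (g • 𝟙 (dbl φ)) := by
    rw [Functor.map_smul, CategoryTheory.Functor.map_id]
  rw [h1, hsum, Q_map_dblMap_eq_zero_of_homotopy]

end main

end Groth.Agent.H8.LCI
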