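import Mathlib
import Groth.Agent.Lib.Helper8.FlatSES

/-!
# Linear algebra core: a two-term complex `M → F` with `F` flat which is "quasi-isomorphic through a
roof" to a two-term complex of flat modules has `M` flat.
-/

set_option autoImplicit false

open TensorProduct Function

namespace Groth.Agent.H8.LCI

universe u
variable {B : Type u} [CommRing B]
  {X₁ X₀ M F E₁ E₀ : Type u}
  [AddCommGroup X₁] [Module B X₁] [AddCommGroup X₀] [Module B X₀]
  [AddCommGroup M] [Module B M] [AddCommGroup F] [Module B F]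
  [AddCommGroup E₁] [Module B E₁] [AddCommGroup E₀] [Module B E₀]

/-- elements of `(X × Y) ⊗ N` vanish if both projections vanish. -/
lemma eq_zero_of_fst_snd {X Y N : Type u} [AddCommGroup X] [Module B X] [AddCommGroup Y] [Module B Y]
    [AddCommGroup N] [Module B N] (z : (X × Y) ⊗[B] N)
    (h1 : (LinearMap.fst B X Y).rTensor N z = 0) (h2 : (LinearMap.snd B X Y).rTensor N z = 0) :
    z = 0 := by
  have hid : (LinearMap.id : (X × Y) →ₗ[B] (X × Y)) =
      (LinearMap.inl B X Y) ∘ₗ (LinearMap.fst B X Y) + (LinearMap.inr B X Y) ∘ₗ (LinearMap.snd B X Y) := by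
    refine LinearMap.ext fun p => ?_
    rcases p with ⟨x, y⟩
    simp
  have : z = (LinearMap.id : (X × Y) →ₗ[B] (X × Y)).rTensor N z := by
    rw [LinearMap.rTensor_id]; rfl
  rw [this, hid, LinearMap.rTensor_add, LinearMap.add_apply, LinearMap.rTensor_comp,
    LinearMap.rTensor_comp, LinearMap.comp_apply, LinearMap.comp_apply, h1, h2, map_zero, map_zero,
    add_zero]

/-- the mapping cone sequence of a quasi-isomorphism of two-term complexes is short exact;
stated with explicit hypotheses. -/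
structure ConeExact (dX : X₁ →ₗ[B] X₀) (dK : M →ₗ[B] F) (s₁ : X₁ →ₗ[B] M) (s₀ : X₀ →ₗ[B] F) : Prop where
  inj : ∀ x, dX x = 0 → s₁ x = 0 → x = 0
  mid : ∀ x₀ m, s₀ x₀ = dK m → ∃ x₁, dX x₁ = x₀ ∧ s₁ x₁ = m
  surj : ∀ f, ∃ x₀ m, f = s₀ x₀ - dK m

variable {dX : X₁ →ₗ[B] X₀} {dK : M →ₗ[B] F} {s₁ : X₁ →ₗ[B] M} {s₀ : X₀ →ₗ[B] F}

lemma ConeExact.injective (h : ConeExact dX dK s₁ s₀) : Injective (LinearMap.prod dX s₁) := by
  rw [injective_iff_map_eq_zero]
  intro x hx
  have hx' : (dX x, s₁ x) = 0 := hx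
  rw [Prod.mk_eq_zero] at hx'
  exact h.inj x hx'.1 hx'.2

lemma ConeExact.exact (h : ConeExact dX dK s₁ s₀) (hc : ∀ x, dK (s₁ x) = s₀ (dX x)) :
    Exact (LinearMap.prod dX s₁) (LinearMap.coprod s₀ (-dK)) := by
  rintro ⟨x₀, m⟩
  constructor
  · intro hz
    have : s₀ x₀ = dK m := by
      have hz' : s₀ x₀ + -dK m = 0 := by simpa using hz
      rwa [← sub_eq_add_neg, sub_eq_zero] at hz'
    obtain ⟨x₁, h1, h2⟩ := h.mid x₀ m this
    exact ⟨x₁, by simp [h1, h2]⟩
  · rintro ⟨x₁, hx⟩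
    have hx' : (dX x₁, s₁ x₁) = (x₀, m) := hx
    rw [Prod.mk.injEq] at hx'
    simp [← hx'.1, ← hx'.2, hc]

lemma ConeExact.surjective (h : ConeExact dX dK s₁ s₀) :
    Surjective (LinearMap.coprod s₀ (-dK)) := by
  intro f
  obtain ⟨x₀, m, rfl⟩ := h.surj f
  exact ⟨(x₀, m), by simp [sub_eq_add_neg]⟩

/-- **Core lemma.** -/
theorem flat_of_roof (dX : X₁ →ₗ[B] X₀) (dK : M →ₗ[B] F) (dE : E₁ →ₗ[B] E₀)
    (s₁ : X₁ →ₗ[B] M) (s₀ : X₀ →ₗ[B] F) (hs : ∀ x, dK (s₁ x) = s₀ (dX x))
    (g₁ : X₁ →ₗ[B] E₁) (g₀ : X₀ →ₗ[B] E₀) (hg : ∀ x, dE (g₁ x) = g₀ (dX x))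
    (hS : ConeExact dX dK s₁ s₀) (hG : ConeExact dX dE g₁ g₀)
    [Module.Flat B F] [Module.Flat B E₁] [Module.Flat B E₀] : Module.Flat B M := by
  rw [Module.Flat.iff_lTensor_injective']
  intro I
  rw [injective_iff_map_eq_zero]
  intro ξ hξ
  set ι := I.subtype with hι
  -- notation
  let γ := LinearMap.prod dX s₁
  let δ := LinearMap.coprod s₀ (-dK)
  let α := LinearMap.prod dX g₁
  let β := LinearMap.coprod g₀ (-dE)
  let jM := LinearMap.inr B X₀ M
  set η := jM.rTensor I ξ with hη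
  have hη0 : ι.lTensor (X₀ × M) η = 0 := by
    rw [hη, ← LinearMap.comp_apply, LinearMap.lTensor_comp_rTensor, ← LinearMap.rTensor_comp_lTensor,
      LinearMap.comp_apply, hξ, map_zero]
  -- θ = 0
  have hθ : δ.rTensor I η = 0 := by
    apply Module.Flat.lTensor_preserves_injective_linearMap (M := F) ι I.injective_subtype
    rw [map_zero, ← LinearMap.comp_apply, LinearMap.lTensor_comp_rTensor,
      ← LinearMap.rTensor_comp_lTensor, LinearMap.comp_apply, hη0, map_zero]
  -- lift to ζ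
  obtain ⟨ζ, hζ⟩ := (rTensor_exact I (hS.exact hs) hS.surjective η).mp hθ
  -- (X₁ ⊗ ι) ζ = 0
  have hζ0 : ι.lTensor X₁ ζ = 0 := by
    apply Module.Flat.rTensor_preserves_injective_linearMap (M := B) γ hS.injective
    rw [map_zero, ← LinearMap.comp_apply, LinearMap.rTensor_comp_lTensor,
      ← LinearMap.lTensor_comp_rTensor, LinearMap.comp_apply, hζ, hη0]
  -- α ⊗ I kills ζ
  have hα : α.rTensor I ζ = 0 := by
    apply eq_zero_of_fst_snd
    · rw [← LinearMap.comp_apply, ← LinearMap.rTensor_comp]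
      have : (LinearMap.fst B X₀ E₁) ∘ₗ α = (LinearMap.fst B X₀ M) ∘ₗ γ := by
        ext x; simp [α, γ]
      rw [this, LinearMap.rTensor_comp, LinearMap.comp_apply, hζ, hη, ← LinearMap.comp_apply,
        ← LinearMap.rTensor_comp]
      have : (LinearMap.fst B X₀ M) ∘ₗ jM = 0 := by ext x; simp [jM]
      rw [this, LinearMap.rTensor_zero, LinearMap.zero_apply]
    · rw [← LinearMap.comp_apply, ← LinearMap.rTensor_comp]
      have : (LinearMap.snd B X₀ E₁) ∘ₗ α = g₁ := by ext x; simp [α]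
      rw [this]
      apply Module.Flat.lTensor_preserves_injective_linearMap (M := E₁) ι I.injective_subtype
      rw [map_zero, ← LinearMap.comp_apply, LinearMap.lTensor_comp_rTensor,
        ← LinearMap.rTensor_comp_lTensor, LinearMap.comp_apply, hζ0, map_zero]
  have hζz : ζ = 0 :=
    (injective_iff_map_eq_zero _).1
      (FlatSES.rTensor_injective_of_flat_quotient α β hG.injective (hG.exact hg) hG.surjective I) _ hα
  -- conclude
  have hηz : η = 0 := by rw [← hζ, hζz, map_zero]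
  have : ξ = (LinearMap.snd B X₀ M).rTensor I η := by
    rw [hη, ← LinearMap.comp_apply, ← LinearMap.rTensor_comp]
    have : (LinearMap.snd B X₀ M) ∘ₗ jM = LinearMap.id := by ext x; simp [jM]
    rw [this, LinearMap.rTensor_id]; rfl
  rw [this, hηz, map_zero]

end Groth.Agent.H8.LCI
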