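import Mathlib
import Groth.Prelude
import Groth.Agent.Lib.Helper8.LCI.QI
import Groth.Agent.Lib.Helper8.LCI.FlatCore

/-!
# Flat representatives: if `K = [K⁻¹ → K⁰]` with `K⁰` flat is isomorphic in `D(B)` to a two-term
complex of flat modules then `K⁻¹` is flat.
-/

set_option autoImplicit false
set_option linter.style.haveILetI false

open CategoryTheory CategoryTheory.Limits HomologicalComplex

attribute [local instance] HasDerivedCategory.standard

namespace Groth.Agent.H8.LCI

universe u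
variable {B : Type u} [CommRing B]

variable {X K : CochainComplex (ModuleCat.{u} B) ℤ}

theorem coneExact_of_bijective (F : X ⟶ K) (h1 : Function.Bijective (kerMap F))
    (h2 : Function.Bijective (cokerMap F)) :
    ConeExact (dl X) (dl K) (F.f (-1)).hom (F.f 0).hom where
  inj := by
    intro x hx hsx
    have : kerMap F ⟨x, hx⟩ = 0 := Subtype.ext hsx
    have := (injective_iff_map_eq_zero _).1 h1.1 _ this
    exact congrArg Subtype.val this
  mid := by
    intro x₀ m hm
    have hc : cokerMap F (Submodule.Quotient.mk x₀) = 0 := by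
      rw [cokerMap_mk, Submodule.Quotient.mk_eq_zero, hm]
      exact ⟨m, rfl⟩
    have hc' := (injective_iff_map_eq_zero _).1 h2.1 _ hc
    rw [Submodule.Quotient.mk_eq_zero] at hc'
    obtain ⟨x₁', hx₁'⟩ := hc'
    have hker : m - (F.f (-1)).hom x₁' ∈ LinearMap.ker (dl K) := by
      rw [LinearMap.mem_ker, map_sub, ← comm_apply, hx₁', hm, sub_self]
    obtain ⟨⟨x'', hx''⟩, hx''2⟩ := h1.2 ⟨_, hker⟩
    have hx''3 : (F.f (-1)).hom x'' = m - (F.f (-1)).hom x₁' := congrArg Subtype.val hx''2
    refine ⟨x₁' + x'', ?_, ?_⟩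
    · rw [map_add, hx₁', LinearMap.mem_ker.mp hx'', add_zero]
    · rw [map_add, hx''3]; abel
  surj := by
    intro f
    obtain ⟨z, hz⟩ := h2.2 (Submodule.Quotient.mk f)
    obtain ⟨x₀, rfl⟩ := Submodule.Quotient.mk_surjective _ z
    rw [cokerMap_mk, eq_comm, ← sub_eq_zero, ← Submodule.Quotient.mk_sub,
      Submodule.Quotient.mk_eq_zero] at hz
    obtain ⟨m', hm'⟩ := hz
    refine ⟨x₀, -m', ?_⟩
    rw [map_neg, sub_neg_eq_add, hm']; abel

lemma in10_of_strict (X : CochainComplex (ModuleCat.{u} B) ℤ) [X.IsStrictlyGE (-1)]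
    [X.IsStrictlyLE 0] : In10 X := by
  intro i h1 h0
  by_cases hi : i < -1
  · exact X.isZero_of_isStrictlyGE (-1) i hi
  · exact X.isZero_of_isStrictlyLE 0 i (by omega)

lemma isStrictlyGE_of_in10 {K : CochainComplex (ModuleCat.{u} B) ℤ} (hK : In10 K) :
    K.IsStrictlyGE (-1) := by
  rw [CochainComplex.isStrictlyGE_iff]
  intro i hi
  exact hK i (by omega) (by omega)

lemma isStrictlyLE_of_in10 {K : CochainComplex (ModuleCat.{u} B) ℤ} (hK : In10 K) :
    K.IsStrictlyLE 0 := by
  rw [CochainComplex.isStrictlyLE_iff]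
  intro i hi
  exact hK i (by omega) (by omega)

theorem flat_of_iso_toD {K E : CochainComplex (ModuleCat.{u} B) ℤ} (hK : In10 K) (hE : In10 E)
    [Module.Flat B (K.X 0)] (hEflat : ∀ i, Module.Flat B (E.X i))
    (e : DerivedCategory.Q.obj E ≅ DerivedCategory.Q.obj K) : Module.Flat B (K.X (-1)) := by
  haveI := isStrictlyGE_of_in10 hK
  haveI := isStrictlyLE_of_in10 hK
  haveI := isStrictlyGE_of_in10 hE
  obtain ⟨X', hX'ge, hX'le, s, hs, g, hfac⟩ :=
    DerivedCategory.right_fac_of_isStrictlyLE_of_isStrictlyGE (-1) 0 e.inv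
  have hX' : In10 X' := in10_of_strict X'
  have hsq : QuasiIso s := (DerivedCategory.isIso_Q_map_iff_quasiIso (φ := s)).mp hs
  have hgiso : IsIso (DerivedCategory.Q.map g) := by
    have : DerivedCategory.Q.map g = DerivedCategory.Q.map s ≫ e.inv := by
      rw [hfac, IsIso.hom_inv_id_assoc]
    rw [this]
    infer_instance
  have hgq : QuasiIso g := (DerivedCategory.isIso_Q_map_iff_quasiIso (φ := g)).mp hgiso
  obtain ⟨hs1, hs2⟩ := (quasiIso_iff hX' hK s).mp hsq
  obtain ⟨hg1, hg2⟩ := (quasiIso_iff hX' hE g).mp hgq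
  haveI := hEflat (-1)
  haveI := hEflat 0
  exact flat_of_roof (dl X') (dl K) (dl E) (s.f (-1)).hom (s.f 0).hom
    (fun x => (comm_apply s x).symm) (g.f (-1)).hom (g.f 0).hom
    (fun x => (comm_apply g x).symm) (coneExact_of_bijective s hs1 hs2)
    (coneExact_of_bijective g hg1 hg2)

end Groth.Agent.H8.LCI
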