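import Mathlib
import Groth.Prelude
import Groth.Agent.Lib.Helper8.LCI.Dbl

/-!
# The naive cotangent complexes of two presentations are isomorphic in the derived category
-/

set_option autoImplicit false

open CategoryTheory CategoryTheory.Limits HomologicalComplex Algebra KaehlerDifferential TensorProduct

attribute [local instance] HasDerivedCategory.standard

namespace Groth.Agent.H8.LCI

universe u
variable {A B : Type u} [CommRing A] [CommRing B] [Algebra A B]

section ext
variable {P P' : Extension.{u} A B} (f : P.Hom P') (g : P'.Hom P)

lemma toKaehler_map_tmul (b : B) (ω : Ω[P.Ring⁄A]) :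
    P'.toKaehler (Extension.CotangentSpace.map f (b ⊗ₜ ω)) = P.toKaehler (b ⊗ₜ ω) := by
  have hω : ω ∈ Submodule.span P.Ring (Set.range (D A P.Ring)) := by
    rw [KaehlerDifferential.span_range_derivation]; trivial
  induction hω using Submodule.span_induction generalizing b with
  | mem x hx =>
    obtain ⟨y, rfl⟩ := hx
    rw [Extension.CotangentSpace.map_tmul]
    simp only [Extension.toKaehler, mapBaseChange_tmul, map_D]
    congr 2
    exact f.algebraMap_toRingHom y
  | zero => simp
  | add x y _ _ hx hy => rw [tmul_add, map_add, map_add, map_add, hx, hy]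
  | smul r x _ hx =>
    have : b ⊗ₜ[P.Ring] (r • x) = (r • b) ⊗ₜ[P.Ring] x := (smul_tmul r b x).symm
    rw [this, hx]

lemma toKaehler_map (x : P.CotangentSpace) :
    P'.toKaehler (Extension.CotangentSpace.map f x) = P.toKaehler x := by
  induction x using TensorProduct.induction_on with
  | zero => simp
  | add x y hx hy => rw [map_add, map_add, map_add, hx, hy]
  | tmul b ω => exact toKaehler_map_tmul f b ω

/-- the comparison map of naive cotangent complexes. -/
noncomputable def nlMap : dbl P.cotangentComplex ⟶ dbl P'.cotangentComplex :=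
  dblMap (Extension.Cotangent.map f) (Extension.CotangentSpace.map f)
    (fun m => (Extension.CotangentSpace.map_cotangentComplex f m).symm)

include g in
theorem quasiIso_nlMap : QuasiIso (nlMap f) := by
  refine quasiIso_dblMap _ _ _ ?_ ?_ ?_
  · intro m' hm'
    let e := Extension.H1Cotangent.equiv f g
    let y : P'.H1Cotangent := ⟨m', hm'⟩
    refine ⟨(e.symm y).1, ⟨(e.symm y).2, ?_⟩, ?_⟩
    · have : e (e.symm y) = y := e.apply_symm_apply y
      exact congrArg Subtype.val this
    · rintro m ⟨hm1, hm2⟩
      obtain ⟨x, hx⟩ : ∃ x : P.H1Cotangent, x.1 = m := ⟨⟨m, LinearMap.mem_ker.mpr hm1⟩, rfl⟩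
      have h1 : e x = y := by
        apply Extension.h1Cotangentι_ext
        change Extension.Cotangent.map f x.1 = m'
        rw [hx, hm2]
      have h2 : e.symm y = x := by rw [← h1]; exact e.symm_apply_apply x
      rw [h2, hx]
  · intro n hn
    rw [← LinearMap.exact_iff.mp P'.exact_cotangentComplex_toKaehler, LinearMap.mem_ker,
      toKaehler_map] at hn
    rw [← LinearMap.exact_iff.mp P.exact_cotangentComplex_toKaehler, LinearMap.mem_ker]
    exact hn
  · intro n'
    obtain ⟨n, hn⟩ := P.toKaehler_surjective (P'.toKaehler n')
    refine ⟨n, ?_⟩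
    rw [← LinearMap.exact_iff.mp P'.exact_cotangentComplex_toKaehler, LinearMap.mem_ker, map_sub,
      toKaehler_map, hn, sub_self]

include f g in
theorem nonempty_iso_dbl :
    Nonempty (DerivedCategory.Q.obj (dbl P.cotangentComplex) ≅
      DerivedCategory.Q.obj (dbl P'.cotangentComplex)) := by
  have := quasiIso_nlMap f g
  exact ⟨asIso (DerivedCategory.Q.map (nlMap f))⟩

end ext

section gens
variable {ι : Type u} {ι' : Type} (P : Generators A B ι) (P' : Generators A B ι')

theorem nonempty_iso_gens :
    Nonempty (DerivedCategory.Q.obj (dbl P.toExtension.cotangentComplex) ≅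
      DerivedCategory.Q.obj (dbl P'.toExtension.cotangentComplex)) :=
  nonempty_iso_dbl (Generators.defaultHom P P').toExtensionHom
    (Generators.defaultHom P' P).toExtensionHom

/-- The naive cotangent complex of the prelude is isomorphic in `D(B)` to the one of any
presentation by finitely many variables. -/
theorem nonempty_NL_iso :
    Nonempty (LCI.NL A B ≅ DerivedCategory.Q.obj (dbl P'.toExtension.cotangentComplex)) :=
  nonempty_iso_gens (Generators.self A B) P'

end gens

end Groth.Agent.H8.LCI
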