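import Mathlib
import Groth.Prelude
import Groth.Agent.Lib.Helper8.LCI.NLIso
import Groth.Agent.Lib.Helper8.LCI.DblD
import Groth.Agent.Lib.Helper8.LCI.Jac1

set_option autoImplicit false
set_option linter.style.haveILetI false

open CategoryTheory CategoryTheory.Limits HomologicalComplex Algebra

attribute [local instance] HasDerivedCategory.standard

namespace Groth.Agent.H8.LCI

open DerivedCategory MvPolynomial

universe u

section gen
variable {A B : Type u} [CommRing A] [CommRing B] [Algebra A B] {n m : ℕ} (hmn : m ≤ n)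
  (G : Generators A B (Fin n)) (f : Fin m → G.toExtension.Ring)
  (hker : Ideal.span (Set.range f) = G.toExtension.ker)

set_option maxHeartbeats 400000 in
include hker in
theorem jacobian_gen (g : B)
    (hg : g = (Matrix.of fun i j : Fin m => aeval G.val (pderiv (Fin.castLE hmn i) (f j))).det) :
    (∀ (N : Type u) [AddCommGroup N] [Module B N]
      (φ : LCI.NL A B ⟶ (Dual.inD B N)⟦(1 : ℤ)⟧), g • φ = 0) ∧
    (n = m → g • 𝟙 (LCI.NL A B) = 0) := by
  obtain ⟨h, hd, hd'⟩ := exists_jac_homotopy hmn G f hker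
  rw [← hg] at hd hd'
  obtain ⟨e⟩ := nonempty_NL_iso (A := A) (B := B) G
  refine ⟨?_, ?_⟩
  · intro N _ _ φ
    have h1 := smul_comp_eq_zero_of_homotopy G.toExtension.cotangentComplex g h hd N (e.inv ≫ φ)
    have h2 : φ = e.hom ≫ (e.inv ≫ φ) := by rw [e.hom_inv_id_assoc]
    rw [h2, ← Linear.comp_smul, h1, comp_zero]
  · intro hnm
    have h1 := smul_id_eq_zero_of_homotopy G.toExtension.cotangentComplex g h hd (hd' hnm)
    have h2 : 𝟙 (LCI.NL A B) = e.hom ≫ 𝟙 _ ≫ e.inv := by
      rw [Category.id_comp, e.hom_inv_id]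
    rw [h2, ← Linear.comp_smul, ← Linear.smul_comp, h1, zero_comp, comp_zero]

end gen

end Groth.Agent.H8.LCI

namespace Groth.Agent.H8.LCI
open CategoryTheory CategoryTheory.Limits HomologicalComplex Algebra DerivedCategory MvPolynomial
universe u

section quot
variable (A : Type u) [CommRing A] {n : ℕ} (I : Ideal (MvPolynomial (Fin n) A))

/-- The standard presentation of `A[x]/I`. -/
noncomputable def quotGens : Generators A (MvPolynomial (Fin n) A ⧸ I) (Fin n) :=
  Generators.ofAlgHom (Ideal.Quotient.mkₐ A I) (Ideal.Quotient.mkₐ_surjective A I)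

set_option maxHeartbeats 400000 in
lemma quotGens_ker : (quotGens A I).toExtension.ker = I := by
  have h1 : (quotGens A I).toExtension.ker = RingHom.ker (Ideal.Quotient.mkₐ A I).toRingHom :=
    Generators.ker_ofAlgHom _ _
  rw [h1]
  exact Ideal.Quotient.mkₐ_ker A I

set_option maxHeartbeats 400000 in
lemma quotGens_aeval (p : MvPolynomial (Fin n) A) :
    aeval (quotGens A I).val p = Ideal.Quotient.mk I p := by
  have : (aeval (quotGens A I).val : MvPolynomial (Fin n) A →ₐ[A] _) = Ideal.Quotient.mkₐ A I := by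
    ext i
    simp [quotGens, Generators.ofAlgHom]
  rw [this]
  rfl

end quot

set_option maxHeartbeats 400000 in
theorem jacobian_main (A : Type u) [CommRing A] (n m : ℕ) (hmn : m ≤ n)
    (f : Fin m → MvPolynomial (Fin n) A) :
    (∀ (N : Type u) [AddCommGroup N]
      [Module (MvPolynomial (Fin n) A ⧸ Ideal.span (Set.range f)) N]
      (φ : LCI.NL A (MvPolynomial (Fin n) A ⧸ Ideal.span (Set.range f)) ⟶
        (Dual.inD (MvPolynomial (Fin n) A ⧸ Ideal.span (Set.range f)) N)⟦(1 : ℤ)⟧),
      (Ideal.Quotient.mk (Ideal.span (Set.range f)) (Matrix.det (Matrix.of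
        (fun i j : Fin m => MvPolynomial.pderiv (Fin.castLE hmn i) (f j))))) • φ = 0) ∧
    (n = m → (Ideal.Quotient.mk (Ideal.span (Set.range f)) (Matrix.det (Matrix.of
        (fun i j : Fin m => MvPolynomial.pderiv (Fin.castLE hmn i) (f j))))) •
      𝟙 (LCI.NL A (MvPolynomial (Fin n) A ⧸ Ideal.span (Set.range f))) = 0) := by
  refine jacobian_gen hmn (quotGens A (Ideal.span (Set.range f))) f
    (quotGens_ker A (Ideal.span (Set.range f))).symm _ ?_
  rw [RingHom.map_det]
  congr 1
  ext i j
  simp only [RingHom.mapMatrix_apply, Matrix.map_apply, Matrix.of_apply]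
  exact (quotGens_aeval A _ _).symm

end Groth.Agent.H8.LCI
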