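import Mathlib
import Groth.Prelude
import Groth.Agent.Lib.Helper8.LCI.NLIso
import Groth.Agent.Lib.Helper8.LCI.FlatRep

/-!
# Tor amplitude of `NL` in terms of flatness of the conormal module of a finite presentation
-/

set_option autoImplicit false
set_option linter.style.haveILetI false

open CategoryTheory CategoryTheory.Limits HomologicalComplex Algebra

attribute [local instance] HasDerivedCategory.standard

namespace Groth.Agent.H8.LCI

universe u
variable {A B : Type u} [CommRing A] [CommRing B] [Algebra A B]
variable {ι' : Type} (P' : Generators A B ι')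

theorem cotangent_flat_of_hasTorAmplitudeIn
    (h : DRing.HasTorAmplitudeIn B (-1) 0 (LCI.NL A B)) :
    Module.Flat B P'.toExtension.Cotangent := by
  obtain ⟨E, hE, hflat, ⟨e⟩⟩ := h
  obtain ⟨e'⟩ := nonempty_NL_iso (A := A) (B := B) P'
  have hE' : In10 E := fun i h1 h0 => hE i (by omega)
  set K := dbl P'.toExtension.cotangentComplex with hK
  haveI : Module.Flat B (K.X 0) :=
    Module.Flat.of_linearEquiv (eN P'.toExtension.cotangentComplex)
  haveI : Module.Flat B (K.X (-1)) :=
    flat_of_iso_toD (in10_dbl _) hE' hflat (e ≪≫ e')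
  exact Module.Flat.of_linearEquiv (eM P'.toExtension.cotangentComplex).symm

theorem termwiseFlat_dbl [Module.Flat B P'.toExtension.Cotangent] :
    DRing.TermwiseFlat (dbl P'.toExtension.cotangentComplex) := by
  intro i
  by_cases h1 : i = -1
  · subst h1
    exact Module.Flat.of_linearEquiv (eM P'.toExtension.cotangentComplex)
  by_cases h0 : i = 0
  · subst h0
    exact Module.Flat.of_linearEquiv (eN P'.toExtension.cotangentComplex)
  · haveI : Subsingleton ((dbl P'.toExtension.cotangentComplex).X i) :=
      ModuleCat.subsingleton_of_isZero (in10_dbl _ i h1 h0)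
    infer_instance

theorem vanishesOutside_dbl {M N : Type u} [AddCommGroup M] [Module B M] [AddCommGroup N]
    [Module B N] (φ : M →ₗ[B] N) : DRing.VanishesOutside (dbl φ) (-1) 0 := by
  intro i hi
  exact in10_dbl φ i (by omega) (by omega)

theorem hasTorAmplitudeIn_of_cotangent_flat [Module.Flat B P'.toExtension.Cotangent] :
    DRing.HasTorAmplitudeIn B (-1) 0 (LCI.NL A B) := by
  obtain ⟨e'⟩ := nonempty_NL_iso (A := A) (B := B) P'
  exact ⟨dbl P'.toExtension.cotangentComplex, vanishesOutside_dbl _, termwiseFlat_dbl P', ⟨e'.symm⟩⟩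

theorem isPerfect_of_cotangent_projective [Finite ι'] [Module.Finite B P'.toExtension.Cotangent]
    [Module.Projective B P'.toExtension.Cotangent] :
    DRing.IsPerfect B (LCI.NL A B) := by
  obtain ⟨e'⟩ := nonempty_NL_iso (A := A) (B := B) P'
  refine ⟨dbl P'.toExtension.cotangentComplex, -1, 0, vanishesOutside_dbl _, ?_, ⟨e'.symm⟩⟩
  intro i
  by_cases h1 : i = -1
  · subst h1
    exact ⟨Module.Finite.equiv (eM P'.toExtension.cotangentComplex).symm,
      Module.Projective.of_equiv (eM P'.toExtension.cotangentComplex).symm⟩
  by_cases h0 : i = 0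
  · subst h0
    haveI : Module.Free B P'.toExtension.CotangentSpace := Module.Free.of_basis P'.cotangentSpaceBasis
    haveI : Module.Finite B P'.toExtension.CotangentSpace :=
      Module.Finite.of_basis P'.cotangentSpaceBasis
    exact ⟨Module.Finite.equiv (eN P'.toExtension.cotangentComplex).symm,
      Module.Projective.of_equiv (eN P'.toExtension.cotangentComplex).symm⟩
  · haveI : Subsingleton ((dbl P'.toExtension.cotangentComplex).X i) :=
      ModuleCat.subsingleton_of_isZero (in10_dbl _ i h1 h0)
    exact ⟨inferInstance, inferInstance⟩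

end Groth.Agent.H8.LCI
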