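import Mathlib
import Groth.Agent.Lib.Helper8.LCI.Fibre5
import Groth.Agent.Lib.Helper8.LCI.TorAmp
import Groth.Agent.Lib.Helper8.LCI.Transfer
import Groth.Agent.S15821

set_option autoImplicit false
set_option linter.style.haveILetI false

universe u

open Function CategoryTheory RingTheory.Sequence

attribute [local instance] HasDerivedCategory.standard

namespace Groth.Agent.H8.LCI

variable {A B : Type u} [CommRing A] [CommRing B] [Algebra A B]

/-- (C6) For a flat finitely presented algebra, a presentation with flat conormal module has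
Koszul-regular kernel. -/
theorem isKoszulRegularIdeal_of_flat_cotangent [Module.Flat A B] {n : ℕ}
    (f : MvPolynomial (Fin n) A →ₐ[A] B) (hf : Surjective f)
    (hfg : (RingHom.ker f.toRingHom).FG)
    [Module.Flat (MvPolynomial (Fin n) A ⧸ RingHom.ker f.toRingHom)
      (RingHom.ker f.toRingHom).Cotangent] :
    LCI.IsKoszulRegularIdeal (RingHom.ker f.toRingHom) := by
  set I := RingHom.ker f.toRingHom with hI
  haveI : Module.Flat A (MvPolynomial (Fin n) A ⧸ I) :=
    Module.Flat.of_linearEquiv (Ideal.quotientKerAlgEquivOfSurjective hf).toLinearEquiv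
  intro 𝔮 h𝔮
  haveI := isRegularLocalRing_fibLoc_mvPolynomial (A := A) n 𝔮.asIdeal
  obtain ⟨g, hg, ys, hwr, hgen⟩ := exists_away_weaklyRegular (A := A) I hfg 𝔮.asIdeal h𝔮
  exact ⟨g, hg, _, (Groth.Agent.S15821.result _ _ hwr).1, hgen⟩

theorem isLCI_of_hasTorAmplitudeIn [Module.Flat A B] [Algebra.FinitePresentation A B]
    (h : DRing.HasTorAmplitudeIn B (-1) 0 (LCI.NL A B)) : LCI.IsLCI A B := by
  obtain ⟨n, f, hf, hfg⟩ := Algebra.FinitePresentation.out (R := A) (A := B)
  refine ⟨inferInstance, n, f, hf, ?_⟩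
  let P' := Algebra.Generators.ofAlgHom f hf
  have hker : P'.toExtension.ker = RingHom.ker f.toRingHom := Algebra.Generators.ker_ofAlgHom f hf
  haveI : Module.Flat B P'.toExtension.Cotangent := cotangent_flat_of_hasTorAmplitudeIn P' h
  have hfl : Module.Flat (P'.toExtension.Ring ⧸ P'.toExtension.ker)
      P'.toExtension.ker.Cotangent := flat_of_flat_extCotangent _
  have key : ∀ (J : Ideal (MvPolynomial (Fin n) A)), J = RingHom.ker f.toRingHom →
      Module.Flat (MvPolynomial (Fin n) A ⧸ J) J.Cotangent →
      Module.Flat (MvPolynomial (Fin n) A ⧸ RingHom.ker f.toRingHom)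
        (RingHom.ker f.toRingHom).Cotangent := by
    rintro J rfl hJ
    exact hJ
  haveI := key _ hker hfl
  exact isKoszulRegularIdeal_of_flat_cotangent f hf hfg

end Groth.Agent.H8.LCI
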